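import Groth.Agent.Krr.H496.PullK0
import Groth.Agent.Sga67.LocBasisOps

/-!
# The class of a finite biproduct in `K₀` of finite locally free modules
-/

set_option autoImplicit false
universe v u

open CategoryTheory CategoryTheory.Limits AlgebraicGeometry

namespace Groth.Agent.Krr.H492.BiprodClass

attribute [local instance] Abelian.hasFiniteBiproducts

section Abstract

variable {A : Type u} [Category.{v} A] [Abelian A] {n : ℕ} (K : Fin (n + 1) → A)

/-- Split exact sequence `⨁_{j ≥ 1} K_j ⟶ ⨁ K ⟶ K_0`. -/
noncomputable def seq : ShortComplex A :=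
  ShortComplex.mk (biproduct.desc fun j : Fin n => biproduct.ι K j.succ) (biproduct.π K 0) (by
    apply biproduct.hom_ext'
    intro j
    rw [biproduct.ι_desc_assoc, comp_zero, biproduct.ι_π_ne _ (Fin.succ_ne_zero j)])

theorem shortExact_seq : (seq K).ShortExact :=
  (ShortComplex.Splitting.mk (S := seq K)
    (biproduct.lift fun j : Fin n => biproduct.π K j.succ) (biproduct.ι K 0)
    (by
      change (biproduct.desc fun j : Fin n => biproduct.ι K j.succ) ≫
        (biproduct.lift fun j : Fin n => biproduct.π K j.succ) = 𝟙 (⨁ fun j : Fin n => K j.succ)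
      apply biproduct.hom_ext'
      intro j
      apply biproduct.hom_ext
      intro k
      rw [biproduct.ι_desc_assoc, Category.assoc, biproduct.lift_π, Category.comp_id]
      by_cases h : j = k
      · subst h
        rw [biproduct.ι_π_self, biproduct.ι_π_self]
      · rw [biproduct.ι_π_ne _ h, biproduct.ι_π_ne _ (fun h' => h (Fin.succ_injective _ h'))])
    (by exact biproduct.ι_π_self K 0)
    (by
      change (biproduct.lift fun j : Fin n => biproduct.π K j.succ) ≫
        (biproduct.desc fun j : Fin n => biproduct.ι K j.succ) + biproduct.π K 0 ≫ biproduct.ι K 0 = 𝟙 _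
      have h := biproduct.total (f := K)
      rw [Fin.sum_univ_succ] at h
      rw [biproduct.lift_desc, add_comm (∑ _, _), h])).shortExact

end Abstract

open Groth.Agent.Krr.H496.PullK0 (cl cl_ses)

variable {X : Scheme.{u}}

theorem isFinLocFree_and_cl {n : ℕ} (K : Fin n → X.Modules) (hK : ∀ j, FlatMod.IsFinLocFree (K j)) :
    FlatMod.IsFinLocFree (⨁ K) ∧ cl (⨁ K) = ∑ j, cl (K j) := by
  induction n with
  | zero =>
    have h : IsZero (⨁ K) := by
      rw [IsZero.iff_id_eq_zero]
      apply biproduct.hom_ext
      intro j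
      exact j.elim0
    refine ⟨Groth.Agent.Dcoh.FinLocFree.isFinLocFree_of_isZero h, ?_⟩
    rw [Finset.univ_eq_empty, Finset.sum_empty]
    exact Groth.Agent.Sga67.K0Basic.clSub_of_isZero h
  | succ n ih =>
    obtain ⟨h1, h2⟩ := ih (fun j => K j.succ) (fun j => hK _)
    have h3 := shortExact_seq K
    have h4 : FlatMod.IsFinLocFree (⨁ K) :=
      Groth.Agent.Sga67.LocBasis.isFinLocFree_of_shortExact h3 h1 (hK 0)
    refine ⟨h4, ?_⟩
    have h5 := cl_ses h3 h1 h4 (hK 0)
    rw [Fin.sum_univ_succ, add_comm (cl (K 0)), ← h2]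
    exact h5

end Groth.Agent.Krr.H492.BiprodClass
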