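import Groth.Agent.Krr.H492.ConSeq
import Groth.Prelude.Def_Omega2
import Mathlib.AlgebraicGeometry.Morphisms.Immersion

/-!
# The conormal sequence of `X ⟶ T ×_B P`

For `f : T ⟶ B` smooth and quasi-separated, `p : P ⟶ B`, a quasi-compact preimmersion `i₁ : X ⟶ P` and `h : X ⟶ T` over
`B`, there is a short exact sequence `0 → C_{X/P} → C_{X/T ×_B P} → h^* Ω_{T/B} → 0`.
-/

set_option autoImplicit false
universe u

open CategoryTheory CategoryTheory.Limits AlgebraicGeometry TopologicalSpace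

namespace Groth.Agent.Krr.H492.ConProd

open Groth.Agent.Krr.H492.StalkCon Groth.Agent.Krr.H492.ConSeq Groth.Agent.Grpsch.ConormalIso
open Groth.Agent.Smoothlim.ConormalRes

/-- The conormal sheaf in terms of the kernel. -/
noncomputable def conormalIsoC' {X Q : Scheme.{u}} (i : X ⟶ Q) [QuasiCompact i] :
    Omega.conormal i ≅ C' i :=
  (Scheme.Modules.pullback i).mapIso (idealModKerIso i)

variable {X T P B : Scheme.{u}} (f : T ⟶ B) (p : P ⟶ B) (i₁ : X ⟶ P) (h : X ⟶ T) (w : h ≫ f = i₁ ≫ p)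

/-- `X ⟶ T ×_B X`. -/
noncomputable abbrev sg : X ⟶ pullback f (i₁ ≫ p) :=
  pullback.lift h (𝟙 X) (by rw [w, Category.id_comp])

/-- `T ×_B X ⟶ T ×_B P`. -/
noncomputable abbrev jj : pullback f (i₁ ≫ p) ⟶ pullback f p :=
  pullback.lift (pullback.fst _ _) (pullback.snd _ _ ≫ i₁) (by
    rw [pullback.condition, Category.assoc])

/-- `T ×_B X ⟶ T ×_B T`. -/
noncomputable abbrev gg : pullback f (i₁ ≫ p) ⟶ pullback f f :=
  pullback.lift (pullback.fst _ _) (pullback.snd _ _ ≫ h) (by
    rw [pullback.condition, Category.assoc, w])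

theorem sg_jj : sg f p i₁ h w ≫ jj f p i₁ = pullback.lift h i₁ w := by
  apply pullback.hom_ext
  · rw [Category.assoc, pullback.lift_fst, pullback.lift_fst, pullback.lift_fst]
  · rw [Category.assoc, pullback.lift_snd, ← Category.assoc, pullback.lift_snd, Category.id_comp,
      pullback.lift_snd]

theorem sg_jj_snd : (sg f p i₁ h w ≫ jj f p i₁) ≫ pullback.snd f p = i₁ := by
  rw [sg_jj, pullback.lift_snd]

theorem isPullback_jj : IsPullback (jj f p i₁) (pullback.snd f (i₁ ≫ p)) (pullback.snd f p) i₁ := by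
  refine IsPullback.flip ?_
  refine IsPullback.of_bot (h₁₁ := pullback.snd f (i₁ ≫ p)) (h₂₁ := pullback.snd f p) (h₃₁ := f)
    (v₁₁ := jj f p i₁) (v₁₂ := i₁) (v₂₁ := pullback.fst f p) (v₂₂ := p) ?_ ?_ ?_
  · rw [pullback.lift_fst]
    exact (IsPullback.of_hasPullback f (i₁ ≫ p)).flip
  · rw [pullback.lift_snd]
  · exact (IsPullback.of_hasPullback f p).flip

theorem isPullback_gg : IsPullback (gg f p i₁ h w) (pullback.snd f (i₁ ≫ p)) (pullback.snd f f) h := by
  refine IsPullback.flip ?_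
  refine IsPullback.of_bot (h₁₁ := pullback.snd f (i₁ ≫ p)) (h₂₁ := pullback.snd f f) (h₃₁ := f)
    (v₁₁ := gg f p i₁ h w) (v₁₂ := h) (v₂₁ := pullback.fst f f) (v₂₂ := f) ?_ ?_ ?_
  · rw [pullback.lift_fst]
    have h1 : ∀ k : X ⟶ B, k = i₁ ≫ p →
        IsPullback (pullback.snd f (i₁ ≫ p)) (pullback.fst f (i₁ ≫ p)) k f := by
      rintro _ rfl
      exact (IsPullback.of_hasPullback f (i₁ ≫ p)).flip
    exact h1 _ w
  · rw [pullback.lift_snd]
  · exact (IsPullback.of_hasPullback f f).flip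

theorem isPullback_sg : IsPullback (sg f p i₁ h w) h (gg f p i₁ h w) (pullback.diagonal f) := by
  refine IsPullback.of_right (h₁₂ := pullback.snd f (i₁ ≫ p)) (v₁₃ := h) (h₂₂ := pullback.snd f f) ?_ ?_
    (isPullback_gg f p i₁ h w).flip
  · rw [pullback.lift_snd, pullback.diagonal_snd]
    exact IsPullback.of_horiz_isIso ⟨by simp⟩
  · apply pullback.hom_ext
    · rw [Category.assoc, pullback.lift_fst, pullback.lift_fst, Category.assoc, pullback.diagonal_fst,
        Category.comp_id]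
    · rw [Category.assoc, pullback.lift_snd, ← Category.assoc, pullback.lift_snd, Category.id_comp,
        Category.assoc, pullback.diagonal_snd, Category.comp_id]

/-- The conormal sequence for `X ⟶ T ×_B P`. -/
theorem exists_shortExact [IsPreimmersion i₁] [QuasiCompact i₁] [Smooth f] [QuasiSeparated f] :
    ∃ S : ShortComplex X.Modules, S.ShortExact ∧ Nonempty (S.X₁ ≅ Omega.conormal i₁) ∧
      Nonempty (S.X₂ ≅ Omega.conormal (pullback.lift h i₁ w)) ∧
      Nonempty (S.X₃ ≅ (Scheme.Modules.pullback h).obj (Omega.sheaf f)) := by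
  have hq : sg f p i₁ h w ≫ pullback.snd f (i₁ ≫ p) = 𝟙 X := pullback.lift_snd _ _ _
  have hσ : IsPreimmersion (sg f p i₁ h w) := isPreimmersion_of_section hq
  have hσc : QuasiCompact (sg f p i₁ h w) := quasiCompact_of_section hq
  have hj : IsPreimmersion (jj f p i₁) :=
    MorphismProperty.of_isPullback (isPullback_jj f p i₁).flip inferInstance
  have hjc : QuasiCompact (jj f p i₁) :=
    MorphismProperty.of_isPullback (isPullback_jj f p i₁).flip inferInstance
  have e := sg_jj_snd f p i₁ h w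
  have h1 : IsPreimmersion ((sg f p i₁ h w ≫ jj f p i₁) ≫ pullback.snd f p) := by rw [e]; infer_instance
  have h1c : QuasiCompact ((sg f p i₁ h w ≫ jj f p i₁) ≫ pullback.snd f p) := by rw [e]; infer_instance
  have H : IsPullback (jj f p i₁) (pullback.snd f (i₁ ≫ p)) (pullback.snd f p)
      ((sg f p i₁ h w ≫ jj f p i₁) ≫ pullback.snd f p) := by
    rw [e]; exact isPullback_jj f p i₁
  have H' := isIso_conormalMap_of_section (isPullback_sg f p i₁ h w) (isPullback_gg f p i₁ h w)
    (pullback.diagonal_snd f)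
  refine ⟨_, shortExact _ _ _ _ H, ⟨?_⟩, ⟨?_⟩, ⟨?_⟩⟩
  · exact (conormalIsoC' _).symm ≪≫ eqToIso (by rw [e])
  · exact (conormalIsoC' _).symm ≪≫ eqToIso (by rw [sg_jj])
  · exact (conormalIsoC' _).symm ≪≫
      (asIso (conormalMap (isPullback_sg f p i₁ h w).w)).symm

end Groth.Agent.Krr.H492.ConProd
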