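import Mathlib.RingTheory.RingHom.Smooth
import Mathlib.RingTheory.Smooth.Basic
import Mathlib.RingTheory.Ideal.Quotient.Operations

/-!
# Squares of augmentation ideals and formally smooth maps

If `A → B` is formally smooth and `B → k` is a ring map with `A → k` surjective, then an element of `A`
whose image lies in the square of `ker (B → k)` lies in the square of `ker (A → k)`.
-/

set_option autoImplicit false
universe u

namespace Groth.Agent.Krr.H492.SmoothAlg

theorem mem_sq_of_formallySmooth {A B k : Type u} [CommRing A] [CommRing B] [CommRing k]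
    (φ : A →+* B) (ψ : B →+* k) (hφ : φ.FormallySmooth) (hs : Function.Surjective (ψ.comp φ)) (a : A)
    (ha : φ a ∈ (RingHom.ker ψ) ^ 2) : a ∈ (RingHom.ker (ψ.comp φ)) ^ 2 := by
  let _ : Algebra A B := φ.toAlgebra
  let _ : Algebra A k := (ψ.comp φ).toAlgebra
  have : Algebra.FormallySmooth A B := hφ
  set I : Ideal A := RingHom.ker (ψ.comp φ) with hI
  let f : B →ₐ[A] k := { ψ with commutes' := fun _ => rfl }
  let g : (A ⧸ I ^ 2) →ₐ[A] k := Ideal.Quotient.liftₐ (I ^ 2) (Algebra.ofId A k) (fun x hx => by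
    have h1 : x ∈ I := Ideal.pow_le_self two_ne_zero hx
    exact h1)
  have hg : Function.Surjective g := by
    intro c
    obtain ⟨x, hx⟩ := hs c
    exact ⟨Ideal.Quotient.mk _ x, hx⟩
  have hker : ∀ z ∈ RingHom.ker (g : (A ⧸ I ^ 2) →+* k), ∃ y ∈ I, Ideal.Quotient.mk (I ^ 2) y = z := by
    intro z hz
    obtain ⟨y, rfl⟩ := Ideal.Quotient.mk_surjective z
    exact ⟨y, hz, rfl⟩
  have hle : RingHom.ker (g : (A ⧸ I ^ 2) →+* k) ≤ I.map (Ideal.Quotient.mk (I ^ 2)) := by
    intro z hz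
    obtain ⟨y, hy, rfl⟩ := hker z hz
    exact Ideal.mem_map_of_mem _ hy
  have hsq : (RingHom.ker (g : (A ⧸ I ^ 2) →+* k)) ^ 2 = ⊥ := by
    rw [eq_bot_iff]
    refine (Ideal.pow_right_mono hle 2).trans ?_
    rw [← Ideal.map_pow, Ideal.map_quotient_self]
  have hnil : IsNilpotent (RingHom.ker (g : (A ⧸ I ^ 2) →+* k)) := ⟨2, hsq⟩
  let s : B →ₐ[A] (A ⧸ I ^ 2) := Algebra.FormallySmooth.liftOfSurjective f g hg hnil
  have hs' : ∀ b, g (s b) = f b := Algebra.FormallySmooth.liftOfSurjective_apply f g hg hnil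
  have h1 : s (φ a) ∈ (RingHom.ker (g : (A ⧸ I ^ 2) →+* k)) ^ 2 := by
    have h2 : (RingHom.ker ψ).map (s : B →+* (A ⧸ I ^ 2)) ≤ RingHom.ker (g : (A ⧸ I ^ 2) →+* k) := by
      rw [Ideal.map_le_iff_le_comap]
      intro b hb
      change g (s b) = 0
      rw [hs']
      exact hb
    have h3 := Ideal.mem_map_of_mem (s : B →+* (A ⧸ I ^ 2)) ha
    rw [Ideal.map_pow] at h3
    exact Ideal.pow_right_mono h2 2 h3
  rw [hsq] at h1
  have h4 : s (φ a) = Ideal.Quotient.mk (I ^ 2) a := s.commutes a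
  rw [h4] at h1
  exact Ideal.Quotient.eq_zero_iff_mem.mp h1

end Groth.Agent.Krr.H492.SmoothAlg
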