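import Groth.Agent.Krr.H492.StalkCon
import Groth.Agent.Krr.H492.SmoothAlg
import Groth.Agent.Grpsch.ConormalIso
import Mathlib.AlgebraicGeometry.Morphisms.Smooth

/-!
# The conormal sequence of a factorization through a smooth morphism

`π : Q ⟶ P` smooth, `i₁ : X ⟶ P` a preimmersion, `W = Q ×_P X` with projections `j' : W ⟶ Q`, `q : W ⟶ X` and a section
`σ : X ⟶ W` of `q`.  Then `0 → C_{X/P} → C_{X/Q} → C_{X/W} → 0` is exact.
-/

set_option autoImplicit false
universe u

open CategoryTheory CategoryTheory.Limits AlgebraicGeometry TopologicalSpace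

namespace Groth.Agent.Krr.H492.ConSeq

open Groth.Agent.Smoothlim.ModKer Groth.Agent.CycB.StalkExact Groth.Agent.CycB.PushStalk
open Groth.Agent.Fdesc.PullbackStalk Groth.Agent.Fdesc.FlatBC Groth.Agent.Grpsch.ConormalStalk
open Groth.Agent.Grpsch.ConormalBC Groth.Agent.Krr.H492.StalkCon

section General

variable {X : Scheme.{u}}

theorem eq_zero_of_germ {M : X.Modules} {U : X.Opens} (s : Γ(M, U))
    (h : ∀ (x : X) (hx : x ∈ U), M.presheaf.germ U x hx s = 0) : s = 0 := by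
  refine TopCat.Presheaf.section_ext ⟨M.presheaf, M.isSheaf⟩ U s 0 fun x hx => ?_
  refine (h x hx).trans ?_
  exact (map_zero _).symm

theorem eq_zero_of_stalkLin {M N : X.Modules} (φ : M ⟶ N) (h : ∀ (x : X) (m : M.presheaf.stalk x),
    stalkLin φ x m = 0) : φ = 0 := by
  apply eq_zero_of_app
  intro U s
  apply eq_zero_of_germ
  intro x hx
  rw [← stalkLin_germ, h]

theorem subsingleton_of_exact {M N K : X.Modules} (f : M ⟶ N) (g : N ⟶ K) (w : f ≫ g = 0)
    (h : ∀ x : X, Function.Exact (stalkLin f x) (stalkLin g x)) : (ShortComplex.mk f g w).Exact := by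
  rw [ShortComplex.exact_iff_isZero_homology]
  apply (Groth.Agent.PerfC.FlatExact.isZero_iff_subsingleton_stalk _).mpr
  intro x
  have h1 : ((ShortComplex.mk f g w).map (stalkFun x)).Exact := by
    rw [ShortComplex.ab_exact_iff_function_exact]
    exact h x
  have h2 : IsZero ((stalkFun x).obj (ShortComplex.mk f g w).homology) :=
    (ShortComplex.exact_iff_isZero_homology _ |>.mp h1).of_iso
      ((ShortComplex.mk f g w).mapHomologyIso (stalkFun x)).symm
  exact AddCommGrpCat.subsingleton_of_isZero h2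

end General

variable {X W Q P : Scheme.{u}} (σ : X ⟶ W) (j' : W ⟶ Q) (π : Q ⟶ P) (q : W ⟶ X)

section Stalk

variable {σ j' π q} (H : IsPullback j' q π ((σ ≫ j') ≫ π))
  [IsPreimmersion ((σ ≫ j') ≫ π)]

include H in
/-- Elements of the ideal of `X` in `P` die in the local rings of `W`. -/
theorem stalkMap_eq_zero (x : X) (e : (kernel (ClSub.unitToPush ((σ ≫ j') ≫ π))).presheaf.stalk
    (((σ ≫ j') ≫ π) x)) :
    j'.stalkMap (σ x) (π.stalkMap (j' (σ x)) (kap ((σ ≫ j') ≫ π) (π (j' (σ x))) e)) = 0 := by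
  have h1 := (mem_range_kap_crossMap H.w ((σ ≫ j') ≫ π).isEmbedding.isInducing (σ x)
    (kap ((σ ≫ j') ≫ π) (π (j' (σ x))) e)).mp ⟨e, rfl⟩
  have h2 := congr($(crossMap_comp H.w (σ x)) (kap ((σ ≫ j') ≫ π) (π (j' (σ x))) e))
  change q.stalkMap (σ x) (crossMap H.w (σ x) _) = j'.stalkMap (σ x) (π.stalkMap (j' (σ x)) _) at h2
  rw [← h2, h1, map_zero]

end Stalk

theorem down_down_eq_zero (H : IsPullback j' q π ((σ ≫ j') ≫ π))
    [IsPreimmersion ((σ ≫ j') ≫ π)] [IsPreimmersion (σ ≫ j')] [IsPreimmersion σ] :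
    down (σ ≫ j') π ≫ down σ j' = 0 := by
  apply eq_zero_of_stalkLin
  intro x m
  obtain ⟨e, rfl⟩ := canAdd_surjective ((σ ≫ j') ≫ π) _ x m
  rw [stalkLin_comp, LinearMap.comp_apply]
  obtain ⟨e', h1, h2⟩ := exists_down (σ ≫ j') π x e
  rw [h1]
  obtain ⟨e'', h3, h4⟩ := exists_down σ j' x e'
  rw [h3]
  have h5 : kap σ (σ x) e'' = 0 := by
    rw [h4]
    refine (congrArg (j'.stalkMap (σ x)) h2).trans ?_
    exact stalkMap_eq_zero H x e
  have h6 : e'' = 0 := by
    apply kap_injective σ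
    rw [h5, map_zero]
  rw [h6, map_zero]

/-- Surjectivity of `C'_{X/Q} → C'_{X/W}` on stalks. -/
theorem stalkLin_down_surjective [IsPreimmersion (σ ≫ j')] [IsPreimmersion σ] [SurjectiveOnStalks j'] (x : X) :
    Function.Surjective (stalkLin (down σ j') x) := by
  intro t
  obtain ⟨e', rfl⟩ := canAdd_surjective σ _ x t
  obtain ⟨b, hb⟩ := j'.stalkMap_surjective (σ x) (kap σ (σ x) e')
  have hbI : b ∈ Ix (σ ≫ j') x := by
    change (σ ≫ j').stalkMap x b = 0
    rw [Scheme.Hom.stalkMap_comp]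
    change σ.stalkMap x (j'.stalkMap (σ x) b) = 0
    rw [hb]
    exact kap_mem σ x e'
  obtain ⟨e, rfl⟩ := exists_kap_eq (σ ≫ j') x b hbI
  obtain ⟨e'', h3, h4⟩ := exists_down σ j' x e
  refine ⟨canAdd (σ ≫ j') _ x e, h3.trans ?_⟩
  congr 1
  apply kap_injective σ
  rw [h4]
  exact hb

/-- Injectivity of `C'_{X/P} → C'_{X/Q}` on stalks for `Q` smooth over `P`. -/
theorem stalkLin_down_injective {i : X ⟶ Q} [IsPreimmersion (i ≫ π)] [IsPreimmersion i] [Smooth π] (x : X) :
    Function.Injective (stalkLin (down i π) x) := by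
  rw [injective_iff_map_eq_zero]
  intro t ht
  obtain ⟨e, rfl⟩ := canAdd_surjective (i ≫ π) _ x t
  obtain ⟨e', h1, h2⟩ := exists_down i π x e
  rw [h1, canAdd_eq_zero_iff, h2] at ht
  rw [canAdd_eq_zero_iff]
  have hsm : (π.stalkMap (i x)).hom.FormallySmooth := by
    have h3 : i x ∈ π.smoothLocus := by
      rw [Scheme.Hom.smoothLocus_eq_top π]
      trivial
    exact h3
  have hcomp : ((i ≫ π).stalkMap x).hom = (i.stalkMap x).hom.comp (π.stalkMap (i x)).hom := by
    rw [Scheme.Hom.stalkMap_comp]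
    rfl
  have hs : Function.Surjective ((i.stalkMap x).hom.comp (π.stalkMap (i x)).hom) := by
    rw [← hcomp]
    exact (i ≫ π).stalkMap_surjective x
  have h4 := SmoothAlg.mem_sq_of_formallySmooth (π.stalkMap (i x)).hom (i.stalkMap x).hom hsm hs _ ht
  rw [← hcomp] at h4
  exact h4

/-- Exactness in the middle on stalks. -/
theorem stalkLin_down_exact (H : IsPullback j' q π ((σ ≫ j') ≫ π))
    [IsPreimmersion ((σ ≫ j') ≫ π)] [IsPreimmersion (σ ≫ j')] [IsPreimmersion σ] [IsPreimmersion j'] (x : X) :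
    Function.Exact (stalkLin (down (σ ≫ j') π) x) (stalkLin (down σ j') x) := by
  intro t
  constructor
  swap
  · rintro ⟨y, rfl⟩
    have h := down_down_eq_zero σ j' π q H
    have h1 := congrArg (fun φ => stalkLin φ x y) h
    simp only [stalkLin_comp, LinearMap.comp_apply] at h1
    rw [h1]
    change ((stalkFun x).map (0 : C' ((σ ≫ j') ≫ π) ⟶ C' σ)).hom y = 0
    rw [Functor.map_zero]
    rfl
  intro ht
  obtain ⟨e0, rfl⟩ := canAdd_surjective (σ ≫ j') _ x t
  obtain ⟨e', h1, h2⟩ := exists_down σ j' x e0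
  rw [h1, canAdd_eq_zero_iff, h2] at ht
  -- the element `b` of `O_{Q, i x}`
  let e : (kernel (ClSub.unitToPush (σ ≫ j'))).presheaf.stalk (j' (σ x)) := e0
  set b : Q.presheaf.stalk (j' (σ x)) := kap (σ ≫ j') (j' (σ x)) e with hb
  let J : Ideal (Q.presheaf.stalk (j' (σ x))) := Ix (σ ≫ j') x
  have hcomp : ((σ ≫ j').stalkMap x).hom = (σ.stalkMap x).hom.comp (j'.stalkMap (σ x)).hom := by
    rw [Scheme.Hom.stalkMap_comp]
    rfl
  have hJ : ∀ y : Q.presheaf.stalk (j' (σ x)), j'.stalkMap (σ x) y ∈ Ix σ x → y ∈ J := by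
    intro y hy
    change ((σ ≫ j').stalkMap x).hom y = 0
    rw [hcomp]
    exact hy
  -- lift of the square
  have hmap : ∀ c ∈ (Ix σ x) ^ 2, ∃ d ∈ J ^ 2, j'.stalkMap (σ x) d = c := by
    intro c hc
    rw [pow_two] at hc
    induction hc using Submodule.mul_induction_on' with
    | mem_mul_mem y hy z hz =>
      obtain ⟨y', rfl⟩ := j'.stalkMap_surjective (σ x) y
      obtain ⟨z', rfl⟩ := j'.stalkMap_surjective (σ x) z
      refine ⟨y' * z', ?_, map_mul _ _ _⟩
      rw [pow_two]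
      exact Ideal.mul_mem_mul (hJ _ hy) (hJ _ hz)
    | add y _ z _ hy hz =>
      obtain ⟨y', hy', rfl⟩ := hy
      obtain ⟨z', hz', rfl⟩ := hz
      exact ⟨y' + z', add_mem hy' hz', map_add _ _ _⟩
  obtain ⟨c, hc, hcb⟩ := hmap _ ht
  -- the difference lies in the ideal generated by the ideal of `X` in `P`
  have h3 : b - c ∈ Ideal.map (π.stalkMap (j' (σ x))).hom (RingHom.ker (crossMap H.w (σ x)).hom) := by
    refine mem_map_ker H j'.isEmbedding.injective (σ x) (crossMap_surjective H.w (σ x)) _ ?_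
    rw [map_sub, hcb, sub_self]
  let cA : (kernel (ClSub.unitToPush (σ ≫ j'))).presheaf.stalk (j' (σ x)) →+
    (C' (σ ≫ j')).presheaf.stalk x := canAdd (σ ≫ j') _ x
  have hcA : ∀ (r : Q.presheaf.stalk (j' (σ x))) m, cA (r • m) = (σ ≫ j').stalkMap x r • cA m :=
    fun r m => canAdd_smul (σ ≫ j') _ x r m
  have key : ∀ y ∈ Ideal.map (π.stalkMap (j' (σ x))).hom (RingHom.ker (crossMap H.w (σ x)).hom),
      ∃ m, kap (σ ≫ j') (j' (σ x)) m = y ∧
        cA m ∈ LinearMap.range (stalkLin (down (σ ≫ j') π) x) := by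
    intro y hy
    refine Submodule.span_induction (p := fun y _ =>
      ∃ m, kap (σ ≫ j') (j' (σ x)) m = y ∧
        cA m ∈ LinearMap.range (stalkLin (down (σ ≫ j') π) x)) ?_ ?_ ?_ ?_ hy
    · rintro _ ⟨a, ha, rfl⟩
      obtain ⟨m, rfl⟩ := (mem_range_kap_crossMap H.w ((σ ≫ j') ≫ π).isEmbedding.isInducing (σ x) a).mpr ha
      obtain ⟨m', h4, h5⟩ := exists_down (σ ≫ j') π x m
      exact ⟨m', h5, ⟨_, h4⟩⟩
    · exact ⟨0, map_zero _, by rw [map_zero]; exact zero_mem _⟩
    · rintro y z _ _ ⟨m, rfl, hm⟩ ⟨m', rfl, hm'⟩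
      exact ⟨m + m', map_add _ _ _, by rw [map_add]; exact add_mem hm hm'⟩
    · rintro r y _ ⟨m, rfl, hm⟩
      exact ⟨r • m, map_smul _ _ _, by
        rw [hcA]
        exact Submodule.smul_mem _ _ hm⟩
  obtain ⟨m, hm, hmr⟩ := key _ h3
  obtain ⟨n, hn⟩ : ∃ n, kap (σ ≫ j') (j' (σ x)) n = c :=
    exists_kap_eq (σ ≫ j') x c (Ideal.pow_le_self two_ne_zero hc)
  have h6 : cA n = 0 := by
    refine (canAdd_eq_zero_iff (σ ≫ j') x n).mpr ?_
    rw [show kap (σ ≫ j') ((σ ≫ j') x) n = c from hn]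
    exact hc
  have h7 : e = m + n := by
    apply kap_injective (σ ≫ j')
    rw [map_add, hm, hn, ← hb, sub_add_cancel]
  have h8 : cA e ∈ LinearMap.range (stalkLin (down (σ ≫ j') π) x) := by
    rw [h7, map_add, h6, add_zero]
    exact hmr
  exact h8

/-- The conormal sequence, in terms of `C'`. -/
theorem shortExact (H : IsPullback j' q π ((σ ≫ j') ≫ π))
    [IsPreimmersion ((σ ≫ j') ≫ π)] [IsPreimmersion (σ ≫ j')] [IsPreimmersion σ] [IsPreimmersion j']
    [Smooth π] :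
    (ShortComplex.mk (down (σ ≫ j') π) (down σ j') (down_down_eq_zero σ j' π q H)).ShortExact where
  exact := subsingleton_of_exact _ _ _ (stalkLin_down_exact σ j' π q H)
  mono_f := (Groth.Agent.PerfC.FlatExact.mono_iff_stalkLin _).mpr (stalkLin_down_injective π)
  epi_g := (Groth.Agent.PerfC.FlatExact.epi_iff_stalkLin _).mpr (stalkLin_down_surjective σ j')

end Groth.Agent.Krr.H492.ConSeq
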