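import Groth.Agent.Krr.H496.PullK0
import Groth.Agent.Grpsch.PicGrp
import Groth.Agent.Sga2.PnHomExact
import Groth.Agent.Sga2.PnHomAdj
import Groth.Agent.CohqB.HomPost
import Groth.Agent.Ega2.QCohLocal

/-!
# The duality involution on `K₀` of finite locally free modules

* `dualK X : Kvb X →+ Kvb X`, `[E] ↦ [Hom(E, O)]`;
* `dualK_cl_invertible`: the dual of an invertible module is its inverse in `Pic X`.
-/

set_option autoImplicit false
universe u

open CategoryTheory CategoryTheory.Limits AlgebraicGeometry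

namespace Groth.Agent.Krr.H492.DualK

open Groth.Agent.Krr.H496.PullK0 (cl cl_ses)
open Groth.Agent.CohqB.HomSheaf (homSheaf)
open Groth.Agent.Sga67 Groth.Agent.Grpsch.PicGrp
open Groth.Agent.Fdesc.LocGen (isInvertible_structureModule)

variable {X : Scheme.{u}}

theorem isFinLocFree_structure : FlatMod.IsFinLocFree (Coh.structureModule X) :=
  Ega2.QCohLocal.isFinLocFree_of_rank
    (Ega2.QCohLocal.isFinLocFreeOfRank_one_iff.mpr isInvertible_structureModule)

theorem isFinLocFree_of_isInvertible {L : X.Modules} (hL : PicF.IsInvertible L) : FlatMod.IsFinLocFree L :=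
  Ega2.QCohLocal.isFinLocFree_of_rank (Ega2.QCohLocal.isFinLocFreeOfRank_one_iff.mpr hL)

/-- The dual of a module. -/
noncomputable abbrev dl (M : X.Modules) : X.Modules := homSheaf M (Coh.structureModule X)

theorem isFinLocFree_dl {M : X.Modules} (hM : FlatMod.IsFinLocFree M) : FlatMod.IsFinLocFree (dl M) :=
  CohqB.HomPost.isFinLocFree_homSheaf hM isFinLocFree_structure

theorem cl_iso {M N : X.Modules} (e : M ≅ N) (hM : FlatMod.IsFinLocFree M) : cl M = cl N :=
  K0Basic.clSub_iso' (P := fun M : X.Modules => FlatMod.IsFinLocFree M) e hM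
    (Dcoh.FinLocFree.isFinLocFree_of_iso e hM) (isZero_zero X.Modules)
    (Dcoh.FinLocFree.isFinLocFree_of_isZero (isZero_zero _))

theorem cl_dl_ses {S : ShortComplex X.Modules} (hS : S.ShortExact) (h₁ : FlatMod.IsFinLocFree S.X₁)
    (h₂ : FlatMod.IsFinLocFree S.X₂) (h₃ : FlatMod.IsFinLocFree S.X₃) :
    cl (dl S.X₂) = cl (dl S.X₁) + cl (dl S.X₃) := by
  have h := Sga2.PnHomExact.shortExact_homSC hS (Ega2.QCohLocal.isQCoh_of_isFinLocFree h₁)
    (Ega2.QCohLocal.isQCoh_of_isFinLocFree h₂) h₃ (Coh.structureModule X)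
  have h' := cl_ses h (isFinLocFree_dl h₃) (isFinLocFree_dl h₂) (isFinLocFree_dl h₁)
  rw [add_comm]
  exact h'

variable (X) in
/-- Duality on `K₀`. -/
noncomputable def dualK : SGA6.Kvb X →+ SGA6.Kvb X :=
  K0Basic.liftSub (fun M : X.Modules => FlatMod.IsFinLocFree M) (fun E => cl (dl E))
    (fun _ hS h₁ h₂ h₃ => cl_dl_ses hS h₁ h₂ h₃)

theorem dualK_cl {E : X.Modules} (hE : FlatMod.IsFinLocFree E) : dualK X (cl E) = cl (dl E) :=
  K0Basic.liftSub_clSub (P := fun M : X.Modules => FlatMod.IsFinLocFree M) (fun E => cl (dl E)) _ hE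

/-- The sheaf Hom of the statements. -/
theorem cl_sheafHom {E : X.Modules} (hE : FlatMod.IsFinLocFree E) [DCoh.HasSheafHom E] :
    cl ((DCoh.sheafHom E).obj (Coh.structureModule X)) = dualK X (cl E) := by
  rw [dualK_cl hE]
  exact (cl_iso ((Sga2.PnHomAdj.sheafHomIso E).app (Coh.structureModule X)).symm (isFinLocFree_dl hE)).symm

theorem dualK_cl_invertible {L M : X.Modules} (hL : PicF.IsInvertible L) (hM : PicF.IsInvertible M)
    (h : mk L hL * mk M hM = 1) : dualK X (cl L) = cl M := by
  rw [dualK_cl (isFinLocFree_of_isInvertible hL)]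
  have h1 : mk (dual L) (isInvertible_dual hL) = mk M hM := by
    rw [← inv_mk, inv_eq_iff_mul_eq_one]
    exact h
  obtain ⟨e⟩ := (mk_eq_iff _ _).mp h1
  exact cl_iso e (isFinLocFree_dl (isFinLocFree_of_isInvertible hL))

theorem dualK_one : dualK X (cl (Coh.structureModule X)) = cl (Coh.structureModule X) :=
  dualK_cl_invertible isInvertible_structureModule isInvertible_structureModule (by
    rw [← one_def, mul_one])

end Groth.Agent.Krr.H492.DualK
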