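import Groth.Agent.Krr.H492.EulerSeq
import Groth.Agent.Krr.H492.BiprodClass
import Groth.Agent.Krr.H492.DualK
import Groth.Agent.Ega3B.ProjFrame

/-!
# The class of `Ω_{P^m}` and of its dual

`[Ω] + 1 = (m + 1) [O(-1)]` on `P^m_ℤ`, and, for `h : X ⟶ P^m_ℤ`, `[(h^* Ω)^∨] + 1 = (m + 1) [h^* O(1)]`.
-/

set_option autoImplicit false
universe u

open CategoryTheory CategoryTheory.Limits AlgebraicGeometry

namespace Groth.Agent.Krr.H492.EulerClass

open Groth.Agent.Krr.H496.PullK0 (cl cl_ses pullK0 pullK0_cl)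
open Groth.Agent.Krr.H492.EulerMap Groth.Agent.Krr.H492.EulerSeq Groth.Agent.Krr.H492.DualK
open Groth.Agent.Grpsch.PicGrp
open Groth.Agent.Fdesc.LocGen (isInvertible_structureModule isInvertible_pullback)

variable (m : ℕ)

theorem isInvertible_tw (d : ℤ) : PicF.IsInvertible (Twist.twistProjSpace.{u} m Z.{u} d) :=
  Groth.Agent.Ega2.TwistInv.isInvertible_twist (Groth.Agent.Ega3B.ProjFrame.coveredByOne m Z.{u}) d

theorem isFinLocFree_tw (d : ℤ) : FlatMod.IsFinLocFree (Twist.twistProjSpace.{u} m Z.{u} d) :=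
  isFinLocFree_of_isInvertible (isInvertible_tw m d)

theorem flf_and_cl : FlatMod.IsFinLocFree (Omega.sheaf (CohB1.ProjSpace.toSpec.{u} m Z.{u})) ∧
    cl (Omega.sheaf (CohB1.ProjSpace.toSpec.{u} m Z.{u})) + cl (Coh.structureModule (CohB1.ProjSpace.{u} m Z.{u})) =
      (m + 1) • cl (Twist.twistProjSpace.{u} m Z.{u} (-1)) := by
  have hS := EulerSeq.shortExact.{u} m
  have hL : FlatMod.IsFinLocFree (L.{u} m) := isFinLocFree_tw m (-1)
  have hL0 : FlatMod.IsFinLocFree (L0.{u} m) := isFinLocFree_tw m 0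
  obtain ⟨hB, hcl⟩ := BiprodClass.isFinLocFree_and_cl (fun _ : Fin (m + 1) => L.{u} m) (fun _ => hL)
  have h1 : FlatMod.IsFinLocFree (EulerSeq.seq.{u} m).X₁ := by
    have := hS.epi_g
    have h2 : FlatMod.IsFinLocFree (kernel (EulerSeq.seq.{u} m).g) :=
      Dcoh.Spread.isFinLocFree_kernel (EulerSeq.seq.{u} m).g hB hL0
    refine Dcoh.FinLocFree.isFinLocFree_of_iso ?_ h2
    exact (limit.isLimit _).conePointUniqueUpToIso hS.fIsKernel
  refine ⟨h1, ?_⟩
  have h3 : cl (EulerSeq.seq.{u} m).X₂ = cl (EulerSeq.seq.{u} m).X₁ + cl (EulerSeq.seq.{u} m).X₃ :=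
    cl_ses hS h1 hB hL0
  obtain ⟨e⟩ := Groth.Agent.Ega2.TwistInv.nonempty_unit_iso (CohB1.polyGrading.{u} m Z.{u})
  have h4 : cl (Coh.structureModule (CohB1.ProjSpace.{u} m Z.{u})) = cl (EulerSeq.seq.{u} m).X₃ :=
    cl_iso e isFinLocFree_structure
  rw [h4]
  refine h3.symm.trans (hcl.trans ?_)
  rw [Finset.sum_const, Finset.card_univ, Fintype.card_fin]
  rfl

theorem mk_tw_mul : mk (Twist.twistProjSpace.{u} m Z.{u} (-1)) (isInvertible_tw m (-1)) *
    mk (Twist.twistProjSpace.{u} m Z.{u} 1) (isInvertible_tw m 1) = 1 := by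
  rw [mk_mul_mk, mk_eq_one_iff]
  have := Groth.Agent.Ega2.TwistInv.isIso_mulHom (Groth.Agent.Ega3B.ProjFrame.coveredByOne m Z.{u})
    (show (-1 : ℤ) + 1 = 0 by norm_num)
  obtain ⟨e⟩ := Groth.Agent.Ega2.TwistInv.nonempty_unit_iso (CohB1.polyGrading.{u} m Z.{u})
  exact ⟨@asIso _ _ _ _ (Groth.Agent.Ega2.TwistMul.mulHom (CohB1.polyGrading.{u} m Z.{u})
    (show (-1 : ℤ) + 1 = 0 by norm_num)) this ≪≫ e.symm⟩

variable {X : Scheme.{u}} (h : X ⟶ CohB1.ProjSpace.{u} m Z.{u})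

theorem isFinLocFree_pull_omega : FlatMod.IsFinLocFree
    ((Scheme.Modules.pullback h).obj (Omega.sheaf (CohB1.ProjSpace.toSpec.{u} m Z.{u}))) :=
  Groth.Agent.PerfB.FlatPull.isFinLocFree_pullback h (flf_and_cl m).1

/-- The dual Euler relation on `X`. -/
theorem cl_dual_pull : dualK X (cl ((Scheme.Modules.pullback h).obj
      (Omega.sheaf (CohB1.ProjSpace.toSpec.{u} m Z.{u})))) + cl (Coh.structureModule X) =
    (m + 1) • cl ((Scheme.Modules.pullback h).obj (Twist.twistProjSpace.{u} m Z.{u} 1)) := by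
  have h1 := congrArg (fun z => dualK X (pullK0 h z)) (flf_and_cl.{u} m).2
  rw [map_add, map_add, map_nsmul, map_nsmul, pullK0_cl h (flf_and_cl.{u} m).1,
    pullK0_cl h isFinLocFree_structure, pullK0_cl h (isFinLocFree_tw m (-1))] at h1
  have h2 : dualK X (cl ((Scheme.Modules.pullback h).obj (Coh.structureModule _))) =
      cl (Coh.structureModule X) := by
    rw [cl_iso (@asIso _ _ _ _ _ (isIso_pullOne h)).symm
      (Groth.Agent.PerfB.FlatPull.isFinLocFree_pullback h isFinLocFree_structure), dualK_one]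
  have h3 : dualK X (cl ((Scheme.Modules.pullback h).obj (Twist.twistProjSpace.{u} m Z.{u} (-1)))) =
      cl ((Scheme.Modules.pullback h).obj (Twist.twistProjSpace.{u} m Z.{u} 1)) := by
    refine dualK_cl_invertible (isInvertible_pullback h (isInvertible_tw m (-1)))
      (isInvertible_pullback h (isInvertible_tw m 1)) ?_
    rw [← pull_mk h (isInvertible_tw m (-1)), ← pull_mk h (isInvertible_tw m 1), ← map_mul, mk_tw_mul, map_one]
  rw [h2, h3] at h1
  exact h1

end Groth.Agent.Krr.H492.EulerClass
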