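import Groth.Agent.Ega2.TwistMul
import Groth.Prelude.Def_CohB1
import Mathlib.RingTheory.MvPolynomial.EulerIdentity
import Mathlib.RingTheory.Etale.Kaehler
import Mathlib.RingTheory.Etale.Basic

/-!
# Partial derivatives on the structure sheaf of projective space

`dSec m R j s` : the section `∂ s / ∂ T_j` of `O(-1)` attached to a section `s` of the structure sheaf of
`P^m_R`; additive, satisfies the Leibniz rule, compatible with restriction.
-/

set_option autoImplicit false
universe u

open CategoryTheory AlgebraicGeometry Limits TopologicalSpace Opposite TopCat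

namespace Groth.Agent.Krr.H492.EulerDer

open Twist Groth.Agent.Ega2.TwistBasic MvPolynomial

variable (m : ℕ) (R : Type u) [CommRing R]

/-- The polynomial ring. -/
abbrev Pol : Type u := MvPolynomial (Fin (m + 1)) R

/-- The grading. -/
noncomputable abbrev gr : ℕ → Submodule R (Pol m R) := CohB1.polyGrading m R

section Loc

variable (x : ProjectiveSpectrum (gr m R)) (j : Fin (m + 1))

theorem exists_dl : ∃ D : Derivation R (Loc (gr m R) x) (Loc (gr m R) x),
    ∀ a : Pol m R, D (algebraMap (Pol m R) (Loc (gr m R) x) a) =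
      algebraMap (Pol m R) (Loc (gr m R) x) (pderiv j a) := by
  let P := x.asHomogeneousIdeal.toIdeal
  have : P.IsPrime := x.isPrime
  have : Algebra.FormallyEtale (Pol m R) (Localization.AtPrime P) :=
    Algebra.FormallyEtale.of_isLocalization P.primeCompl
  have hbc := KaehlerDifferential.isBaseChange_of_formallyEtale R (Pol m R) (Localization.AtPrime P)
  let D0 : Derivation R (Pol m R) (Localization.AtPrime P) :=
    (Algebra.linearMap (Pol m R) (Localization.AtPrime P)).compDer (pderiv j)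
  let g : Ω[(Localization.AtPrime P)⁄R] →ₗ[Localization.AtPrime P] Localization.AtPrime P :=
    hbc.lift D0.liftKaehlerDifferential
  refine ⟨g.compDer (KaehlerDifferential.D R (Localization.AtPrime P)), fun a => ?_⟩
  have h2 := hbc.lift_eq D0.liftKaehlerDifferential (KaehlerDifferential.D R (Pol m R) a)
  rw [KaehlerDifferential.map_D, Derivation.liftKaehlerDifferential_comp_D] at h2
  exact h2

/-- The extension of `∂_j` to the localization at a point. -/
noncomputable def dl : Derivation R (Loc (gr m R) x) (Loc (gr m R) x) := (exists_dl m R x j).choose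

theorem dl_algebraMap (a : Pol m R) : dl m R x j (algebraMap (Pol m R) (Loc (gr m R) x) a) =
    algebraMap (Pol m R) (Loc (gr m R) x) (pderiv j a) := (exists_dl m R x j).choose_spec a

theorem dl_mk (a s : Pol m R) (hs : s ∈ x.asHomogeneousIdeal.toIdeal.primeCompl)
    (hs2 : s * s ∈ x.asHomogeneousIdeal.toIdeal.primeCompl) :
    dl m R x j (Localization.mk a ⟨s, hs⟩) =
      Localization.mk (s * pderiv j a - a * pderiv j s) ⟨s * s, hs2⟩ := by
  have hu : IsUnit (algebraMap (Pol m R) (Loc (gr m R) x) (s * s)) :=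
    IsLocalization.map_units (Loc (gr m R) x) (⟨s * s, hs2⟩ : x.asHomogeneousIdeal.toIdeal.primeCompl)
  have e1 : Localization.mk a ⟨s, hs⟩ * algebraMap (Pol m R) (Loc (gr m R) x) s =
      algebraMap (Pol m R) (Loc (gr m R) x) a := by
    rw [Localization.mk_eq_mk']
    exact IsLocalization.mk'_spec (Loc (gr m R) x) a ⟨s, hs⟩
  have e2 := congrArg (dl m R x j) e1
  rw [Derivation.leibniz, dl_algebraMap, dl_algebraMap, smul_eq_mul, smul_eq_mul] at e2
  apply hu.mul_left_injective
  dsimp only
  have e3 : Localization.mk (s * pderiv j a - a * pderiv j s) ⟨s * s, hs2⟩ *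
      algebraMap (Pol m R) (Loc (gr m R) x) (s * s) =
      algebraMap (Pol m R) (Loc (gr m R) x) (s * pderiv j a - a * pderiv j s) := by
    rw [Localization.mk_eq_mk']
    exact IsLocalization.mk'_spec (Loc (gr m R) x) _ ⟨s * s, hs2⟩
  rw [e3]
  rw [map_sub, map_mul, map_mul, map_mul, ← e1, ← e2]
  ring

end Loc

theorem pderiv_mem {k : ℕ} {a : Pol m R} (ha : a ∈ gr m R k) (j : Fin (m + 1)) :
    pderiv j a ∈ gr m R (k - 1) := by
  rw [mem_homogeneousSubmodule] at ha ⊢
  exact ha.pderiv

theorem pderiv_eq_zero_of_mem {a : Pol m R} (ha : a ∈ gr m R 0) (j : Fin (m + 1)) :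
    pderiv j a = 0 := by
  rw [mem_homogeneousSubmodule] at ha
  have h := (totalDegree_zero_iff_isHomogeneous _).mpr ha
  rw [totalDegree_eq_zero_iff_eq_C] at h
  rw [h, pderiv_C]

/-- The numerator of the derivative of `a / s`. -/
noncomputable def num (j : Fin (m + 1)) (a s : Pol m R) : Pol m R := s * pderiv j a - a * pderiv j s

theorem num_mem {k : ℕ} {a s : Pol m R} (ha : a ∈ gr m R k) (hs : s ∈ gr m R k) (j : Fin (m + 1)) :
    num m R j a s ∈ gr m R (k + (k - 1)) :=
  sub_mem (SetLike.mul_mem_graded hs (pderiv_mem m R ha j)) (SetLike.mul_mem_graded ha (pderiv_mem m R hs j))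

theorem num_deg {k : ℕ} {a s : Pol m R} (ha : a ∈ gr m R k) (hs : s ∈ gr m R k) (j : Fin (m + 1)) :
    ((k + (k - 1) : ℕ) : ℤ) = (k + k : ℕ) + (-1) ∨ num m R j a s = 0 := by
  rcases Nat.eq_zero_or_pos k with rfl | hk
  · right
    rw [num, pderiv_eq_zero_of_mem m R ha, pderiv_eq_zero_of_mem m R hs, mul_zero, mul_zero, sub_zero]
  · left
    omega

theorem mk_mem_twistAt (n : ℤ) (x : ProjectiveSpectrum (gr m R)) {i l : ℕ} {a s : Pol m R} (ha : a ∈ gr m R i)
    (hs : s ∈ gr m R l) (hsx : s ∈ x.asHomogeneousIdeal.toIdeal.primeCompl) (h : (i : ℤ) = l + n ∨ a = 0) :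
    Localization.mk a ⟨s, hsx⟩ ∈ twistAt (gr m R) n x := by
  rcases h with h | h
  · exact Submodule.subset_span ⟨i, l, ⟨a, ha⟩, ⟨s, hs⟩, hsx, h, rfl⟩
  · rw [h, Localization.mk_zero]
    exact zero_mem _

theorem mul_self_mem (x : ProjectiveSpectrum (gr m R)) {s : Pol m R}
    (hs : s ∈ x.asHomogeneousIdeal.toIdeal.primeCompl) :
    s * s ∈ x.asHomogeneousIdeal.toIdeal.primeCompl := mul_mem hs hs

theorem dl_mem (x : ProjectiveSpectrum (gr m R)) (j : Fin (m + 1)) (c : A0 (gr m R) x) :
    dl m R x j c.val ∈ twistAt (gr m R) (-1) x := by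
  rw [HomogeneousLocalization.eq_num_div_den c,
    dl_mk m R x j _ _ c.den_mem (mul_self_mem m R x c.den_mem)]
  exact mk_mem_twistAt m R (-1) x (num_mem m R c.num_mem_deg c.den_mem_deg j)
    (SetLike.mul_mem_graded c.den_mem_deg c.den_mem_deg) _ (num_deg m R c.num_mem_deg c.den_mem_deg j)

/-- The partial derivative of a section of the structure sheaf. -/
noncomputable def dSec (j : Fin (m + 1)) {U : Opens (ProjectiveSpectrum.top (gr m R))}
    (s : O (𝒜 := gr m R) (op U)) : sectN (𝒜 := gr m R) (-1) (op U) :=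
  ⟨fun x => ⟨dl m R x.1 j (s.1 x).val, dl_mem m R x.1 j (s.1 x)⟩, fun x => by
    rcases s.2 x with ⟨V, hxV, i, k, ⟨r, r_mem⟩, ⟨t, t_mem⟩, nin, w⟩
    refine ⟨V, hxV, i, k + (k - 1), k + k, ⟨num m R j r t, num_mem m R r_mem t_mem j⟩,
      ⟨t * t, SetLike.mul_mem_graded t_mem t_mem⟩, fun y => mul_self_mem m R y.1 (nin y),
      num_deg m R r_mem t_mem j, fun y => ?_⟩
    have e := w y
    dsimp only at e ⊢
    erw [e]
    rw [HomogeneousLocalization.val_mk]
    exact dl_mk m R y.1 j r t (nin y) (mul_self_mem m R y.1 (nin y))⟩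

theorem dSec_val (j : Fin (m + 1)) {U : Opens (ProjectiveSpectrum.top (gr m R))}
    (s : O (𝒜 := gr m R) (op U)) (x : U) : ((dSec m R j s).1 x).1 = dl m R x.1 j (s.1 x).val := rfl

theorem dSec_add (j : Fin (m + 1)) {U : Opens (ProjectiveSpectrum.top (gr m R))}
    (s t : O (𝒜 := gr m R) (op U)) : dSec m R j (s + t) = dSec m R j s + dSec m R j t := by
  refine Subtype.ext (funext fun x => Subtype.ext ?_)
  have h : ((s + t).1 x).val = (s.1 x).val + (t.1 x).val := HomogeneousLocalization.val_add _ _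
  change dl m R x.1 j ((s + t).1 x).val = dl m R x.1 j (s.1 x).val + dl m R x.1 j (t.1 x).val
  rw [h, map_add]

theorem dSec_mul (j : Fin (m + 1)) {U : Opens (ProjectiveSpectrum.top (gr m R))}
    (s t : O (𝒜 := gr m R) (op U)) : dSec m R j (s * t) =
      smulS (-1) s (dSec m R j t) + smulS (-1) t (dSec m R j s) := by
  refine Subtype.ext (funext fun x => Subtype.ext ?_)
  have h : ((s * t).1 x).val = (s.1 x).val * (t.1 x).val := HomogeneousLocalization.val_mul _ _
  have h1 : ((smulS (-1) s (dSec m R j t)).1 x).1 = (s.1 x).val * dl m R x.1 j (t.1 x).val :=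
    smulS_val (-1) s (dSec m R j t) x
  have h2 : ((smulS (-1) t (dSec m R j s)).1 x).1 = (t.1 x).val * dl m R x.1 j (s.1 x).val :=
    smulS_val (-1) t (dSec m R j s) x
  have h3 : dl m R x.1 j ((s * t).1 x).val =
      (s.1 x).val * dl m R x.1 j (t.1 x).val + (t.1 x).val * dl m R x.1 j (s.1 x).val := by
    rw [h, Derivation.leibniz]
    rfl
  exact h3.trans (congrArg₂ (fun a b => a + b) h1 h2).symm

theorem dSec_res (j : Fin (m + 1)) {U V : Opens (ProjectiveSpectrum.top (gr m R))} (i : V ⟶ U)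
    (s : O (𝒜 := gr m R) (op U)) :
    dSec m R j ((ProjectiveSpectrum.Proj.structureSheaf (gr m R)).1.map i.op s) =
      resN (-1) i.op (dSec m R j s) := rfl

end Groth.Agent.Krr.H492.EulerDer
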