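import Groth.Agent.Krr.H492.EulerLoc

/-!
# Euler sequence: `Ω` is locally generated by the `d(T_k / T_a)` over `D_+(T_a)`
-/

set_option autoImplicit false
universe u

open CategoryTheory CategoryTheory.Limits AlgebraicGeometry TopologicalSpace Opposite

namespace Groth.Agent.Krr.H492.EulerGen

open Twist Groth.Agent.Ega2.TwistBasic Groth.Agent.Ega2.TwistMul Groth.Agent.Ega2.TwistInv MvPolynomial
open Groth.Agent.Krr.H492.EulerDer Groth.Agent.Krr.H492.EulerMap Groth.Agent.Sga67.Sec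
open Groth.Agent.Krr.H492.EulerLoc Groth.Agent.CurvesB.OmegaDer

variable {m : ℕ} (a : Fin (m + 1)) {R : Type u} [CommRing R]

/-- `W ⊆ D_+(T_a)`. -/
def Inside (W : (Proj (gr m R)).Opens) : Prop :=
  ∀ x : ProjectiveSpectrum (gr m R), x ∈ W → (X a : Pol m R) ∈ x.asHomogeneousIdeal.toIdeal.primeCompl

variable {a} in
theorem Inside.mono {W V : (Proj (gr m R)).Opens} (hW : Inside a W) (h : V ≤ W) : Inside a V :=
  fun x hx => hW x (h hx)

/-- `T_k / T_a`. -/
noncomputable def y (k : Fin (m + 1)) {W : (Proj (gr m R)).Opens} (hW : Inside a W) : Γ(Proj (gr m R), W) :=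
  qS (T m R k) (T m R a) W hW

theorem ev_y (k : Fin (m + 1)) {W : (Proj (gr m R)).Opens} (hW : Inside a W) (x : W) :
    ev x (y a k hW) = (Localization.mk (X k) ⟨X a, hW x.1 x.2⟩ : Loc (gr m R) x.1) :=
  ev_qS (T m R k) (T m R a) W hW x

theorem ev_y_mul (k : Fin (m + 1)) {W : (Proj (gr m R)).Opens} (hW : Inside a W) (x : W) :
    ev x (y a k hW) * al m R x.1 (X a) = al m R x.1 (X k) := by
  rw [ev_y]
  exact mk_mul_al m R x.1 (X k) (hW x.1 x.2)

theorem res_y (k : Fin (m + 1)) {W V : (Proj (gr m R)).Opens} (hW : Inside a W) (h : V ≤ W) :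
    resO _ h (y a k hW) = y a k (hW.mono h) := rfl

theorem y_self {W : (Proj (gr m R)).Opens} (hW : Inside a W) : y a a hW = 1 := by
  apply ev_inj
  intro x
  rw [map_one]
  apply (isUnit_al m R x.1 (hW x.1 x.2)).mul_left_injective
  dsimp only
  rw [ev_y_mul, one_mul]

/-- `1 / T_a`. -/
noncomputable def ea {W : (Proj (gr m R)).Opens} (hW : Inside a W) : Sec (twist (gr m R) (-1)) W :=
  ofS m R (-1) (fracSec (-1) (⟨1, SetLike.GradedOne.one_mem⟩ : gr m R 0) (T m R a) (by simp) W hW)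

theorem evS_ea {W : (Proj (gr m R)).Opens} (hW : Inside a W) (x : W) :
    evS (-1) x (ea a hW) = (Localization.mk 1 ⟨X a, hW x.1 x.2⟩ : Loc (gr m R) x.1) := rfl

/-- `1`, as a section of `O(0)`. -/
noncomputable def e0 (W : (Proj (gr m R)).Opens) : Sec (twist (gr m R) 0) W := ofS m R 0 (oneSec W)

theorem evS_e0 {W : (Proj (gr m R)).Opens} (x : W) : evS (m := m) (R := R) 0 x (e0 W) = 1 :=
  Localization.mk_one

theorem bijective_ea {W : (Proj (gr m R)).Opens} (hW : Inside a W) :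
    Function.Bijective (fun c : Γ(Proj (gr m R), W) => c • ea a hW) :=
  bijective_smul_fracSec (𝒜 := gr m R) (-1) (⟨1, SetLike.GradedOne.one_mem⟩ : gr m R 0) (T m R a) (by simp) W hW
    (fun x _ h => x.isPrime.ne_top ((Ideal.eq_top_iff_one _).mpr h))

theorem bijective_e0 (W : (Proj (gr m R)).Opens) :
    Function.Bijective (fun c : Γ(Proj (gr m R), W) => c • (e0 W : Sec (twist (gr m R) 0) W)) :=
  bijective_smul_fracSec (𝒜 := gr m R) 0 (⟨1, SetLike.GradedOne.one_mem⟩ : gr m R 0)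
    (⟨1, SetLike.GradedOne.one_mem⟩ : gr m R 0) (by simp) W
    (fun x _ h => x.isPrime.ne_top ((Ideal.eq_top_iff_one _).mpr h))
    (fun x _ h => x.isPrime.ne_top ((Ideal.eq_top_iff_one _).mpr h))

theorem δ_y (k j : Fin (m + 1)) {W : (Proj (gr m R)).Opens} (hW : Inside a W) :
    δ m R j W (y a k hW) = (if j = k then (1 : Γ(Proj (gr m R), W)) else 0) • ea a hW -
      (if j = a then (1 : Γ(Proj (gr m R), W)) else 0) • (y a k hW • ea a hW) := by
  apply evS_inj
  intro x
  rw [evS_sub, evS_smul, evS_smul, evS_smul, evS_ea, evS_δ, ev_y]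
  have h1 : ∀ p : Prop, [Decidable p] → ev x (if p then (1 : Γ(Proj (gr m R), W)) else 0) = if p then 1 else 0 := by
    intro p _
    split_ifs
    · exact map_one _
    · exact map_zero _
  rw [h1, h1]
  exact dl_frac m R x.1 a k j (hW x.1 x.2)

theorem Ψ_ea (j : Fin (m + 1)) {W : (Proj (gr m R)).Opens} (hW : Inside a W) :
    appS (Ψ m R j) W (ea a hW) = y a j hW • e0 W := by
  apply evS_inj
  intro x
  rw [evS_smul, evS_e0, mul_one, evS_Ψ, evS_ea, ← ev_y_mul a j hW x, mul_assoc, mul_comm (al m R x.1 (X a))]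
  have h := mk_mul_al m R x.1 1 (hW x.1 x.2)
  rw [map_one] at h
  exact (congrArg (fun c => ev x (y a j hW) * c) h).trans (mul_one _)

/-- The universal derivation. -/
noncomputable def D (W : (P.{u} m).Opens) : Γ(P.{u} m, W) →+ Sec (Omega.sheaf (f.{u} m)) W := d (f.{u} m) W

theorem D_mul (W : (P.{u} m).Opens) (s t : Γ(P.{u} m, W)) : D W (s * t) = s • D W t + t • D W s :=
  d_mul (f.{u} m) W s t

theorem D_one (W : (P.{u} m).Opens) : D W (1 : Γ(P.{u} m, W)) = 0 := by
  have h2 := D_mul W (1 : Γ(P.{u} m, W)) 1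
  rw [one_mul, one_smul] at h2
  exact left_eq_add.mp h2

theorem D_res {W V : (P.{u} m).Opens} (h : V ≤ W) (s : Γ(P.{u} m, W)) :
    res (Omega.sheaf (f.{u} m)) h (D W s) = D V (resO _ h s) := d_res (f.{u} m) h s

theorem Φ_D (j : Fin (m + 1)) (W : (P.{u} m).Opens) (s : Γ(P.{u} m, W)) :
    appS (Φ m j) W (D W s) = δ m Z.{u} j W s := Φ_d m j W s

theorem span_D {W : (P.{u} m).Opens} (hW : IsAffineOpen W) :
    Submodule.span Γ(P.{u} m, W) (Set.range (D W)) = ⊤ :=
  OmegaLift.span_d (f.{u} m) (U := ⊤) le_top (isAffineOpen_top _) hW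

section Eval

variable {W : (P.{u} m).Opens} (hW : Inside a W)

/-- Evaluation at the `T_k / T_a`. -/
noncomputable def ph : Pol m Z.{u} →+* Γ(P.{u} m, W) :=
  eval₂Hom ((Int.castRingHom Γ(P.{u} m, W)).comp (ULift.ringEquiv : Z.{u} ≃+* ℤ).toRingHom) (fun k => y a k hW)

theorem ph_X (k : Fin (m + 1)) : ph a hW (X k) = y a k hW := eval₂Hom_X' _ _ _

theorem ph_C (c : Z.{u}) : ph a hW (C c) = (c.down : Γ(P.{u} m, W)) := by
  rw [ph, eval₂Hom_C]
  rfl

theorem ev_ph {k : ℕ} {r : Pol m Z.{u}} (hr : r ∈ gr m Z.{u} k) (x : W) :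
    ev x (ph a hW r) * al m Z.{u} x.1 (X a) ^ k = al m Z.{u} x.1 r := by
  have h1 : ev x (ph a hW r) = ∑ d ∈ r.support, (al m Z.{u} x.1) (C (coeff d r)) *
      ∏ i, (ev x (y a i hW)) ^ (d i) := by
    rw [ph, coe_eval₂Hom, eval₂_eq', map_sum]
    refine Finset.sum_congr rfl fun d _ => ?_
    rw [map_mul, map_prod]
    congr 1
    · have h2 : (C (coeff d r) : Pol m Z.{u}) = (((coeff d r).down : ℤ) : Pol m Z.{u}) := by
        have h3 : coeff d r = (((coeff d r).down : ℤ) : Z.{u}) := rfl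
        conv_lhs => rw [h3]
        rw [map_intCast]
      rw [h2, map_intCast]
      change ev x (((coeff d r).down : ℤ) : Γ(P.{u} m, W)) = _
      rw [map_intCast]
    · exact Finset.prod_congr rfl fun i _ => map_pow _ _ _
  have h2 : al m Z.{u} x.1 r = ∑ d ∈ r.support, (al m Z.{u} x.1) (C (coeff d r)) *
      ∏ i, (al m Z.{u} x.1 (X i)) ^ (d i) := by
    conv_lhs => rw [← eval₂_eta r, eval₂_eq', map_sum]
    refine Finset.sum_congr rfl fun d _ => ?_
    rw [map_mul, map_prod]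
    congr 1
    exact Finset.prod_congr rfl fun i _ => map_pow _ _ _
  rw [h1, h2, Finset.sum_mul]
  refine Finset.sum_congr rfl fun d hd => ?_
  have h3 : ∑ i, d i = k := by
    have h4 := (mem_homogeneousSubmodule _ _).mp hr (mem_support_iff.mp hd)
    rw [← h4, Finsupp.weight_apply, Finsupp.sum_fintype]
    · simp
    · simp
  have h5 : ∏ i, (al m Z.{u} x.1 (X i)) ^ (d i) = (∏ i, (ev x (y a i hW)) ^ (d i)) * al m Z.{u} x.1 (X a) ^ k := by
    rw [← h3, ← Finset.prod_pow_eq_pow_sum, ← Finset.prod_mul_distrib]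
    refine Finset.prod_congr rfl fun i _ => ?_
    rw [← ev_y_mul a i hW x, mul_pow]
  rw [h5, mul_assoc]

theorem d_ph_mem (r : Pol m Z.{u}) : D W (ph a hW r) ∈
    Submodule.span Γ(P.{u} m, W) (Set.range fun k => D W (y a k hW)) := by
  induction r using MvPolynomial.induction_on with
  | C c =>
    rw [ph_C]
    have h3 : (c.down : Γ(P.{u} m, W)) = c.down • (1 : Γ(P.{u} m, W)) := by rw [zsmul_one]
    rw [h3, map_zsmul, D_one, smul_zero]
    exact zero_mem _
  | add p q hp hq => rw [map_add, map_add]; exact add_mem hp hq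
  | mul_X p k hp =>
    rw [map_mul, D_mul, ph_X]
    exact add_mem (Submodule.smul_mem _ _ (Submodule.subset_span ⟨k, rfl⟩)) (Submodule.smul_mem _ _ hp)

end Eval

theorem exists_frac {W : (Proj (gr m R)).Opens} (g : Γ(Proj (gr m R), W)) (x : Proj (gr m R)) (hx : x ∈ W) :
    ∃ (V : (Proj (gr m R)).Opens) (h : V ≤ W) (k : ℕ) (r t : gr m R k)
      (nin : ∀ z : ProjectiveSpectrum (gr m R), z ∈ V → t.1 ∈ z.asHomogeneousIdeal.toIdeal.primeCompl),
      x ∈ V ∧ ∀ z : V, ev z (resO _ h g) = (Localization.mk r.1 ⟨t.1, nin z.1 z.2⟩ : Loc (gr m R) z.1) := by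
  rcases (toO m R g).2 ⟨x, hx⟩ with ⟨V, hxV, i, k, r, t, nin, w⟩
  refine ⟨V, i.le, k, r, t, fun z hz => nin ⟨z, hz⟩, hxV, fun z => ?_⟩
  refine (congrArg HomogeneousLocalization.val (w z)).trans ?_
  exact HomogeneousLocalization.val_mk _

theorem exists_span {W : (P.{u} m).Opens} (hW : Inside a W) (g : Γ(P.{u} m, W)) (x : P.{u} m) (hx : x ∈ W) :
    ∃ (V : (P.{u} m).Opens) (h : V ≤ W), x ∈ V ∧ D V (resO _ h g) ∈
      Submodule.span Γ(P.{u} m, V) (Set.range fun k => D V (y a k (hW.mono h))) := by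
  obtain ⟨V, hVW, k, r, t, nin, hxV, hg⟩ := exists_frac g x hx
  refine ⟨V, hVW, hxV, ?_⟩
  have hV : Inside a V := hW.mono hVW
  have hu : ∀ z : V, IsUnit (al m Z.{u} z.1 (X a) ^ k) := fun z => (isUnit_al m Z.{u} z.1 (hV z.1 z.2)).pow k
  have h1 : resO _ hVW g * ph a hV t = ph a hV r := by
    apply ev_inj
    intro z
    apply (hu z).mul_left_injective
    dsimp only
    rw [map_mul, mul_assoc, ev_ph a hV t.2, ev_ph a hV r.2, hg z]
    exact mk_mul_al m Z.{u} z.1 r.1 (nin z.1 z.2)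
  have h2 : qS (powOne (T m Z.{u} a) k) t V nin * ph a hV t = 1 := by
    apply ev_inj
    intro z
    apply (hu z).mul_left_injective
    dsimp only
    rw [map_mul, mul_assoc, ev_ph a hV t.2, map_one, one_mul, ev_qS]
    refine (mk_mul_al m Z.{u} z.1 _ (nin z.1 z.2)).trans ?_
    rw [powOne_val, map_pow]
    rfl
  have h3 := D_mul V (resO _ hVW g) (ph a hV t)
  rw [h1] at h3
  have h4 : (ph a hV t : Γ(P.{u} m, V)) • D V (resO _ hVW g) ∈
      Submodule.span Γ(P.{u} m, V) (Set.range fun k => D V (y a k hV)) := by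
    have h5 : (ph a hV t : Γ(P.{u} m, V)) • D V (resO _ hVW g) =
        D V (ph a hV r) - resO _ hVW g • D V (ph a hV t) := by
      rw [h3, add_sub_cancel_left]
    rw [h5]
    exact sub_mem (d_ph_mem a hV r) (Submodule.smul_mem _ _ (d_ph_mem a hV t))
  have h6 := Submodule.smul_mem _ (qS (powOne (T m Z.{u} a) k) t V nin) h4
  rw [← mul_smul, h2, one_smul] at h6
  exact h6

theorem exists_span' {W : (P.{u} m).Opens} (hW : Inside a W) (s : Sec (Omega.sheaf (f.{u} m)) W) (x : P.{u} m)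
    (hx : x ∈ W) : ∃ (V : (P.{u} m).Opens) (h : V ≤ W), x ∈ V ∧ res (Omega.sheaf (f.{u} m)) h s ∈
      Submodule.span Γ(P.{u} m, V) (Set.range fun k => D V (y a k (hW.mono h))) := by
  obtain ⟨W', hW', hxW', hle⟩ := Opens.isBasis_iff_nbhd.mp (P.{u} m).isBasis_affineOpens hx
  have hs : res (Omega.sheaf (f.{u} m)) hle s ∈ Submodule.span Γ(P.{u} m, W') (Set.range (D W')) := by
    rw [span_D hW']
    trivial
  have key : ∀ z ∈ Submodule.span Γ(P.{u} m, W') (Set.range (D W')),
      ∃ (V : (P.{u} m).Opens) (h : V ≤ W'), x ∈ V ∧ res (Omega.sheaf (f.{u} m)) h z ∈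
      Submodule.span Γ(P.{u} m, V) (Set.range fun k => D V (y a k (hW.mono (h.trans hle)))) := by
    intro z hz
    induction hz using Submodule.span_induction with
    | mem z hz =>
      obtain ⟨g, rfl⟩ := hz
      obtain ⟨V, h, hxV, hV⟩ := exists_span a (hW.mono hle) g x hxW'
      refine ⟨V, h, hxV, ?_⟩
      have h1 : res (Omega.sheaf (f.{u} m)) h (D W' g) = D V (resO (P.{u} m) h g) :=
        D_res h g
      rw [h1]
      exact hV
    | zero => exact ⟨W', le_rfl, hxW', by rw [map_zero]; exact zero_mem _⟩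
    | add p q _ _ hp hq =>
      obtain ⟨V, h, hxV, hV⟩ := hp
      obtain ⟨V', h', hxV', hV'⟩ := hq
      refine ⟨V ⊓ V', inf_le_left.trans h, ⟨hxV, hxV'⟩, ?_⟩
      have key2 : ∀ {A B : (P.{u} m).Opens} (hA : A ≤ W') (hBA : B ≤ A) (z : Sec (Omega.sheaf (f.{u} m)) A),
          z ∈ Submodule.span Γ(P.{u} m, A) (Set.range fun k => D A (y a k (hW.mono (hA.trans hle)))) →
          res (Omega.sheaf (f.{u} m)) hBA z ∈ Submodule.span Γ(P.{u} m, B)
            (Set.range fun k => D B (y a k (hW.mono ((hBA.trans hA).trans hle)))) := by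
        intro A B hA hBA z hz
        induction hz using Submodule.span_induction with
        | mem z hz =>
          obtain ⟨k, rfl⟩ := hz
          refine Submodule.subset_span ⟨k, ?_⟩
          exact (D_res hBA (y a k (hW.mono (hA.trans hle)))).symm
        | zero => rw [map_zero]; exact zero_mem _
        | add p q _ _ hp hq => rw [map_add]; exact add_mem hp hq
        | smul c p _ hp => rw [res_smul]; exact Submodule.smul_mem _ _ hp
      have h1 := key2 (B := V ⊓ V') h inf_le_left _ hV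
      have h2 := key2 (B := V ⊓ V') h' inf_le_right _ hV'
      rw [res_res] at h1 h2
      rw [map_add]
      exact add_mem h1 h2
    | smul c p _ hp =>
      obtain ⟨V, h, hxV, hV⟩ := hp
      exact ⟨V, h, hxV, by rw [res_smul]; exact Submodule.smul_mem _ _ hV⟩
  obtain ⟨V, h, hxV, hV⟩ := key _ hs
  refine ⟨V, h.trans hle, hxV, ?_⟩
  rw [res_res] at hV
  exact hV

end Groth.Agent.Krr.H492.EulerGen
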