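import Groth.Agent.Krr.H492.EulerMap

/-!
# Euler sequence: computations on `D_+(T_a)`
-/

set_option autoImplicit false
universe u

open CategoryTheory CategoryTheory.Limits AlgebraicGeometry TopologicalSpace Opposite

namespace Groth.Agent.Krr.H492.EulerLoc

open Twist Groth.Agent.Ega2.TwistBasic Groth.Agent.Ega2.TwistMul Groth.Agent.Ega2.TwistInv MvPolynomial
open Groth.Agent.Krr.H492.EulerDer Groth.Agent.Krr.H492.EulerMap Groth.Agent.Sga67.Sec

variable (m : ℕ) (R : Type u) [CommRing R]

section Point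

variable (x : ProjectiveSpectrum (gr m R))

/-- The map to the localization. -/
noncomputable abbrev al : Pol m R →+* Loc (gr m R) x := algebraMap (Pol m R) (Loc (gr m R) x)

theorem isUnit_al {s : Pol m R} (hs : s ∈ x.asHomogeneousIdeal.toIdeal.primeCompl) : IsUnit (al m R x s) :=
  IsLocalization.map_units (Loc (gr m R) x) (⟨s, hs⟩ : x.asHomogeneousIdeal.toIdeal.primeCompl)

theorem mk_mul_al (a : Pol m R) {s : Pol m R} (hs : s ∈ x.asHomogeneousIdeal.toIdeal.primeCompl) :
    (Localization.mk a ⟨s, hs⟩ : Loc (gr m R) x) * al m R x s = al m R x a := by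
  rw [Localization.mk_eq_mk']
  exact IsLocalization.mk'_spec (Loc (gr m R) x) a ⟨s, hs⟩

theorem eq_mk_of_mul {a : Pol m R} {s : Pol m R} (hs : s ∈ x.asHomogeneousIdeal.toIdeal.primeCompl)
    {c : Loc (gr m R) x} (h : c * al m R x s = al m R x a) : c = Localization.mk a ⟨s, hs⟩ := by
  apply (isUnit_al m R x hs).mul_left_injective
  dsimp only
  rw [h, mk_mul_al]

/-- Euler's identity at a point. -/
theorem sum_al_mul_dl (c : A0 (gr m R) x) :
    ∑ j : Fin (m + 1), al m R x (X j) * dl m R x j c.val = 0 := by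
  rw [HomogeneousLocalization.eq_num_div_den c]
  have hs := c.den_mem
  have hs2 := mul_self_mem m R x hs
  apply (isUnit_al m R x hs2).mul_left_injective
  dsimp only
  rw [zero_mul, Finset.sum_mul]
  have h1 : ∀ j : Fin (m + 1), al m R x (X j) * dl m R x j (Localization.mk c.num ⟨c.den, hs⟩) *
      al m R x (c.den * c.den) = al m R x (c.den * (X j * pderiv j c.num) - c.num * (X j * pderiv j c.den)) := by
    intro j
    rw [dl_mk m R x j _ _ hs hs2, mul_assoc, mk_mul_al, ← map_mul]
    congr 1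
    ring
  rw [Finset.sum_congr rfl (fun j _ => h1 j), ← map_sum, Finset.sum_sub_distrib, ← Finset.mul_sum, ← Finset.mul_sum,
    IsHomogeneous.sum_X_mul_pderiv ((mem_homogeneousSubmodule _ _).mp c.num_mem_deg),
    IsHomogeneous.sum_X_mul_pderiv ((mem_homogeneousSubmodule _ _).mp c.den_mem_deg)]
  rw [mul_smul_comm, mul_smul_comm, mul_comm, sub_self, map_zero]

theorem dl_frac (a k j : Fin (m + 1)) (ha : X a ∈ x.asHomogeneousIdeal.toIdeal.primeCompl) :
    dl m R x j (Localization.mk (X k) ⟨X a, ha⟩) =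
      (if j = k then 1 else 0) * Localization.mk 1 ⟨X a, ha⟩ -
        (if j = a then 1 else 0) * (Localization.mk (X k) ⟨X a, ha⟩ * Localization.mk 1 ⟨X a, ha⟩) := by
  have hs2 := mul_self_mem m R x ha
  rw [dl_mk m R x j _ _ ha hs2]
  symm
  apply eq_mk_of_mul
  have h1 := mk_mul_al m R x 1 ha
  have h2 := mk_mul_al m R x (X k) ha
  rw [map_one] at h1
  have e1 : al m R x (pderiv j (X k)) = if j = k then 1 else 0 := by
    rw [pderiv_X]
    by_cases h : j = k
    · subst h; rw [Pi.single_eq_same, if_pos rfl, map_one]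
    · rw [Pi.single_eq_of_ne (Ne.symm h), if_neg h, map_zero]
  have e2 : al m R x (pderiv j (X a)) = if j = a then 1 else 0 := by
    rw [pderiv_X]
    by_cases h : j = a
    · subst h; rw [Pi.single_eq_same, if_pos rfl, map_one]
    · rw [Pi.single_eq_of_ne (Ne.symm h), if_neg h, map_zero]
  rw [map_sub, map_mul, map_mul, map_mul, e1, e2]
  linear_combination ((if j = k then 1 else 0) * al m R x (X a) -
    (if j = a then 1 else 0) * Localization.mk (X k) ⟨X a, ha⟩ * al m R x (X a)) * h1 -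
    (if j = a then 1 else 0) * h2

end Point

section Sections

variable {m R}

/-- The section `r / s` of the structure sheaf. -/
noncomputable def qS {k : ℕ} (r s : gr m R k) (W : (Proj (gr m R)).Opens)
    (hW : ∀ x : ProjectiveSpectrum (gr m R), x ∈ W → s.1 ∈ x.asHomogeneousIdeal.toIdeal.primeCompl) :
    Γ(Proj (gr m R), W) :=
  show O (𝒜 := gr m R) (op W) from
    ⟨fun x => HomogeneousLocalization.mk ⟨k, r, s, hW x.1 x.2⟩,
      fun x => ⟨W, x.2, 𝟙 _, k, r, s, fun y => hW y.1 y.2, fun _ => rfl⟩⟩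

theorem qS_val {k : ℕ} (r s : gr m R k) (W : (Proj (gr m R)).Opens)
    (hW : ∀ x : ProjectiveSpectrum (gr m R), x ∈ W → s.1 ∈ x.asHomogeneousIdeal.toIdeal.primeCompl) (x : W) :
    ((toO m R (qS r s W hW)).1 x).val = (Localization.mk r.1 ⟨s.1, hW x.1 x.2⟩ : Loc (gr m R) x.1) :=
  HomogeneousLocalization.val_mk _

/-- The value at a point, as a ring homomorphism. -/
noncomputable def ev {W : (Proj (gr m R)).Opens} (x : W) : Γ(Proj (gr m R), W) →+* Loc (gr m R) x.1 where
  toFun s := ((toO m R s).1 x).val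
  map_one' := HomogeneousLocalization.val_one
  map_mul' _ _ := HomogeneousLocalization.val_mul _ _
  map_zero' := HomogeneousLocalization.val_zero
  map_add' _ _ := HomogeneousLocalization.val_add _ _

theorem ev_inj {W : (Proj (gr m R)).Opens} {s t : Γ(Proj (gr m R), W)} (h : ∀ x : W, ev x s = ev x t) : s = t := by
  change toO m R s = toO m R t
  exact Subtype.ext (funext fun x => HomogeneousLocalization.val_injective _ (h x))

theorem ev_qS {k : ℕ} (r s : gr m R k) (W : (Proj (gr m R)).Opens)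
    (hW : ∀ x : ProjectiveSpectrum (gr m R), x ∈ W → s.1 ∈ x.asHomogeneousIdeal.toIdeal.primeCompl) (x : W) :
    ev x (qS r s W hW) = (Localization.mk r.1 ⟨s.1, hW x.1 x.2⟩ : Loc (gr m R) x.1) := qS_val r s W hW x

theorem ev_res {W V : (Proj (gr m R)).Opens} (h : V ≤ W) (s : Γ(Proj (gr m R), W)) (x : V) :
    ev x (resO _ h s) = ev (⟨x.1, h x.2⟩ : W) s := rfl

theorem res_qS {k : ℕ} (r s : gr m R k) (W : (Proj (gr m R)).Opens)
    (hW : ∀ x : ProjectiveSpectrum (gr m R), x ∈ W → s.1 ∈ x.asHomogeneousIdeal.toIdeal.primeCompl)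
    {V : (Proj (gr m R)).Opens} (h : V ≤ W) :
    resO _ h (qS r s W hW) = qS r s V (fun x hx => hW x (h hx)) := rfl

/-- The value of a section of a twisting sheaf. -/
noncomputable def evS (n : ℤ) {W : (Proj (gr m R)).Opens} (x : W) (s : Sec (twist (gr m R) n) W) :
    Loc (gr m R) x.1 :=
  (Subtype.val (p := fun f => f ∈ sectN (𝒜 := gr m R) n (op W)) s x).1

theorem evS_inj (n : ℤ) {W : (Proj (gr m R)).Opens} {s t : Sec (twist (gr m R) n) W}
    (h : ∀ x : W, evS n x s = evS n x t) : s = t :=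
  Subtype.ext (funext fun x => Subtype.ext (h x))

theorem evS_add (n : ℤ) {W : (Proj (gr m R)).Opens} (x : W) (s t : Sec (twist (gr m R) n) W) :
    evS n x (s + t) = evS n x s + evS n x t := rfl

theorem evS_sub (n : ℤ) {W : (Proj (gr m R)).Opens} (x : W) (s t : Sec (twist (gr m R) n) W) :
    evS n x (s - t) = evS n x s - evS n x t := rfl

theorem evS_zero (n : ℤ) {W : (Proj (gr m R)).Opens} (x : W) :
    evS n x (0 : Sec (twist (gr m R) n) W) = 0 := rfl

theorem evS_smul (n : ℤ) {W : (Proj (gr m R)).Opens} (x : W) (c : Γ(Proj (gr m R), W))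
    (s : Sec (twist (gr m R) n) W) : evS n x (c • s) = ev x c * evS n x s :=
  smulS_val (𝒜 := gr m R) n (U := W) c s x

theorem evS_sum (n : ℤ) {W : (Proj (gr m R)).Opens} (x : W) {ι : Type} (A : Finset ι)
    (s : ι → Sec (twist (gr m R) n) W) : evS n x (∑ i ∈ A, s i) = ∑ i ∈ A, evS n x (s i) := by
  classical
  induction A using Finset.induction_on with
  | empty => rw [Finset.sum_empty, Finset.sum_empty, evS_zero]
  | insert a A ha ih => rw [Finset.sum_insert ha, Finset.sum_insert ha, evS_add, ih]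

theorem evS_δ {W : (Proj (gr m R)).Opens} (j : Fin (m + 1)) (x : W) (s : Γ(Proj (gr m R), W)) :
    evS (-1) x (δ m R j W s) = dl m R x.1 j (ev x s) := rfl

theorem evS_Ψ {W : (Proj (gr m R)).Opens} (j : Fin (m + 1)) (x : W) (s : Sec (twist (gr m R) (-1)) W) :
    evS 0 x (appS (Ψ m R j) W s) = al m R x.1 (X j) * evS (-1) x s := by
  rw [appS_Ψ]
  have h : evS 0 x (mulLin (gr m R) (show (1 : ℤ) + (-1) = 0 by norm_num) W (tSec m R j W) s) =
      ((tSec m R j W).1 x).1 * evS (-1) x s := rfl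
  exact h.trans (congrArg (fun c => c * evS (-1) x s) (tSec_val m R j W x))

/-- Euler's identity for sections. -/
theorem sum_Ψ_δ {W : (Proj (gr m R)).Opens} (s : Γ(Proj (gr m R), W)) :
    ∑ j : Fin (m + 1), appS (Ψ m R j) W (δ m R j W s) = 0 := by
  apply evS_inj 0
  intro x
  rw [evS_sum, evS_zero]
  exact (Finset.sum_congr rfl fun j _ => (evS_Ψ j x _).trans (by rw [evS_δ]; rfl)).trans
    (sum_al_mul_dl m R x.1 ((toO m R s).1 x))

end Sections

end Groth.Agent.Krr.H492.EulerLoc
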