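import Groth.Agent.CurvesB.OmegaDer

/-!
# Linear maps out of the sections of `Ω` over affine opens
-/

set_option autoImplicit false
universe u
open CategoryTheory CategoryTheory.Limits AlgebraicGeometry Opposite TopologicalSpace

namespace Groth.Agent.Krr.H492.OmegaLift

open Groth.Agent.CurvesB.OmegaDer

variable {X Y : Scheme.{u}} (f : X ⟶ Y) [QuasiCompact (pullback.diagonal f)] {U : Y.Opens} {W : X.Opens}

theorem exists_lift (e : W ≤ f ⁻¹ᵁ U) (hU : IsAffineOpen U) (hW : IsAffineOpen W) {N : Type u} [AddCommGroup N]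
    [Module Γ(X, W) N] (δ : Γ(X, W) →+ N) (hδ : ∀ s t, δ (s * t) = s • δ t + t • δ s)
    (hc : ∀ r : Γ(Y, U), δ (f.appLE U W e r) = 0) :
    ∃ φ : Γ(Omega.sheaf f, W) →ₗ[Γ(X, W)] N, ∀ s, φ (d f W s) = δ s := by
  let := algX f e
  let := modO f e
  have := isScalarTower f e
  let j1 : Module Γ(Y, U) N := Module.compHom N (f.appLE U W e).hom
  have j2 : IsScalarTower Γ(Y, U) Γ(X, W) N := ⟨fun a b c => by
    rw [Algebra.smul_def, mul_smul]; rfl⟩
  let D : Derivation Γ(Y, U) Γ(X, W) N :=
    { toFun := δ
      map_add' := map_add δ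
      map_smul' := fun a b => by
        rw [Algebra.smul_def, hδ]
        have h1 : δ (algebraMap Γ(Y, U) Γ(X, W) a) = 0 := hc a
        rw [h1, smul_zero, add_zero]
        rfl
      map_one_eq_zero' := by
        have h1 : δ 1 = 0 := by
          have h2 := hδ 1 1
          rw [one_mul, one_smul] at h2
          exact left_eq_add.mp h2
        exact h1
      leibniz' := fun a b => hδ a b }
  let E := LinearEquiv.ofBijective (der f e).liftKaehlerDifferential (bijective_lift f e hU hW)
  refine ⟨D.liftKaehlerDifferential ∘ₗ E.symm.toLinearMap, fun s => ?_⟩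
  have h3 : E (KaehlerDifferential.D Γ(Y, U) Γ(X, W) s) = d f W s := by
    refine (Derivation.liftKaehlerDifferential_comp_D (der f e) s).trans ?_
    exact der_apply f e s
  have h4 : E.symm (d f W s) = KaehlerDifferential.D Γ(Y, U) Γ(X, W) s := by
    rw [← h3, LinearEquiv.symm_apply_apply]
  change D.liftKaehlerDifferential (E.symm (d f W s)) = δ s
  rw [h4]
  exact Derivation.liftKaehlerDifferential_comp_D D s

theorem span_d (e : W ≤ f ⁻¹ᵁ U) (hU : IsAffineOpen U) (hW : IsAffineOpen W) :
    Submodule.span Γ(X, W) (Set.range (d f W)) = ⊤ := by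
  let := algX f e
  let := modO f e
  have := isScalarTower f e
  rw [_root_.eq_top_iff]
  rintro y -
  obtain ⟨z, rfl⟩ := (bijective_lift f e hU hW).2 y
  have hz : z ∈ Submodule.span Γ(X, W) (Set.range (KaehlerDifferential.D Γ(Y, U) Γ(X, W))) := by
    rw [KaehlerDifferential.span_range_derivation]
    trivial
  induction hz using Submodule.span_induction with
  | mem z hz =>
    obtain ⟨s, rfl⟩ := hz
    rw [Derivation.liftKaehlerDifferential_comp_D]
    exact Submodule.subset_span ⟨s, (der_apply f e s).symm⟩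
  | zero => rw [map_zero]; exact zero_mem _
  | add a b _ _ ha hb => rw [map_add]; exact add_mem ha hb
  | smul r a _ ha => rw [map_smul]; exact Submodule.smul_mem _ r ha

end Groth.Agent.Krr.H492.OmegaLift
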