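import Groth.Agent.Krr.H492.EulerDer
import Groth.Agent.Krr.H492.OmegaLift
import Groth.Agent.Sga67.Sec
import Groth.Agent.Ega2.TwistInv
import Groth.Agent.Ega3B.ProjProper

/-!
# The maps `Ω_{P^m_ℤ} ⟶ O(-1)`, `ds ↦ ∂s/∂T_j`
-/

set_option autoImplicit false
universe u

open CategoryTheory CategoryTheory.Limits AlgebraicGeometry TopologicalSpace Opposite

namespace Groth.Agent.Krr.H492.EulerMap

open Twist Groth.Agent.Ega2.TwistBasic Groth.Agent.Ega2.TwistMul MvPolynomial Groth.Agent.Krr.H492.EulerDer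
open Groth.Agent.CurvesB.OmegaDer Groth.Agent.Sga67.Sec

section General

variable (m : ℕ) (R : Type u) [CommRing R]

/-- A function, seen as a section of the structure sheaf of `Proj`. -/
def toO {W : (Proj (gr m R)).Opens} (s : Γ(Proj (gr m R), W)) : O (𝒜 := gr m R) (op W) := s

theorem toO_add {W : (Proj (gr m R)).Opens} (s t : Γ(Proj (gr m R), W)) :
   toO m R (s + t) = toO m R s + toO m R t := rfl

theorem toO_mul {W : (Proj (gr m R)).Opens} (s t : Γ(Proj (gr m R), W)) :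
   toO m R (s * t) = toO m R s * toO m R t := rfl

/-- A section of the twisting sheaf. -/
def ofS (n : ℤ) {W : (Proj (gr m R)).Opens} (s : sectN (𝒜 := gr m R) n (op W)) : Sec (twist (gr m R) n) W := s

theorem ofS_add (n : ℤ) {W : (Proj (gr m R)).Opens} (s t : sectN (𝒜 := gr m R) n (op W)) :
   ofS m R n (s + t) = ofS m R n s + ofS m R n t := rfl

theorem ofS_smul (n : ℤ) {W : (Proj (gr m R)).Opens} (c : Γ(Proj (gr m R), W)) (s : sectN (𝒜 := gr m R) n (op W)) :
   ofS m R n (smulS n (toO m R c) s) = c • ofS m R n s := rfl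

theorem dd_add (j : Fin (m + 1)) {W : (Proj (gr m R)).Opens} (s t : Γ(Proj (gr m R), W)) :
    ofS m R (-1) (dSec m R j (toO m R (s + t))) =
      ofS m R (-1) (dSec m R j (toO m R s)) + ofS m R (-1) (dSec m R j (toO m R t)) := by
  exact congrArg (ofS m R (-1)) (dSec_add m R j (U := W) (toO m R s) (toO m R t))

/-- The partial derivative, on sections. -/
noncomputable def δ (j : Fin (m + 1)) (W : (Proj (gr m R)).Opens) : Γ(Proj (gr m R), W) →+ Sec (twist (gr m R) (-1)) W :=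
  AddMonoidHom.mk' (fun s => ofS m R (-1) (dSec m R j (toO m R s))) (dd_add m R j)

theorem δ_apply (j : Fin (m + 1)) (W : (Proj (gr m R)).Opens) (s : Γ(Proj (gr m R), W)) :
  δ m R j W s = ofS m R (-1) (dSec m R j (toO m R s)) := rfl

theorem δ_mul (j : Fin (m + 1)) (W : (Proj (gr m R)).Opens) (s t : Γ(Proj (gr m R), W)) :
    δ m R j W (s * t) = s • δ m R j W t + t • δ m R j W s := by
  exact congrArg (ofS m R (-1)) (dSec_mul m R j (U := W) (toO m R s) (toO m R t))

theorem δ_res (j : Fin (m + 1)) {W W' : (Proj (gr m R)).Opens} (h : W' ≤ W) (s : Γ(Proj (gr m R), W)) :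
    δ m R j W' (resO (Proj (gr m R)) h s) = res (twist (gr m R) (-1)) h (δ m R j W s) := rfl

theorem δ_one (j : Fin (m + 1)) (W : (Proj (gr m R)).Opens) : δ m R j W 1 = 0 := by
  have h2 := δ_mul m R j W 1 1
  rw [one_mul, one_smul] at h2
  exact left_eq_add.mp h2

theorem δ_intCast (j : Fin (m + 1)) (W : (Proj (gr m R)).Opens) (n : ℤ) :
    δ m R j W (n : Γ(Proj (gr m R), W)) = 0 := by
  have h : (n : Γ(Proj (gr m R), W)) = n • (1 : Γ(Proj (gr m R), W)) := by rw [zsmul_one]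
  rw [h, map_zsmul, δ_one, smul_zero]

/-- The coordinate, as an element of degree one. -/
noncomputable def T (j : Fin (m + 1)) : gr m R 1 :=
  ⟨X j, (mem_homogeneousSubmodule 1 _).mpr (isHomogeneous_X _ j)⟩

/-- The coordinate, as a section of `O(1)`. -/
noncomputable def tSec (j : Fin (m + 1)) (U : Opens (ProjectiveSpectrum.top (gr m R))) :
    sectN (𝒜 := gr m R) 1 (op U) :=
  fracSec 1 (T m R j) (⟨1, SetLike.GradedOne.one_mem⟩ : gr m R 0) (by simp) U
    (fun x _ h => x.isPrime.ne_top ((Ideal.eq_top_iff_one _).mpr h))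

theorem tSec_val (j : Fin (m + 1)) (U : Opens (ProjectiveSpectrum.top (gr m R))) (x : U) :
    ((tSec m R j U).1 x).1 = algebraMap (Pol m R) (Loc (gr m R) x.1) (X j) := by
  rw [← Localization.mk_one_eq_algebraMap]
  rfl

theorem exists_Ψ (j : Fin (m + 1)) : ∃ Ψ : twist (gr m R) (-1) ⟶ twist (gr m R) 0,
    ∀ (W : (Proj (gr m R)).Opens) (s : Sec (twist (gr m R) (-1)) W),
      appS Ψ W s = mulLin (gr m R) (show (1 : ℤ) + (-1) = 0 by norm_num) W (tSec m R j W) s := by
  have hB : Opens.IsBasis (Set.range (fun U : (Proj (gr m R)).Opens => U)) := by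
    rw [Set.range_id']
    exact Opens.isBasis_iff_nbhd.mpr fun {U} {x} hx => ⟨U, trivial, hx, le_rfl⟩
  exact exists_hom_of_basis' hB (twist (gr m R) (-1)) (twist (gr m R) 0)
    (fun W => mulLin (gr m R) (show (1 : ℤ) + (-1) = 0 by norm_num) W (tSec m R j W))
    (fun _ _ _ _ => rfl)

/-- Multiplication by `T_j`. -/
noncomputable def Ψ (j : Fin (m + 1)) : twist (gr m R) (-1) ⟶ twist (gr m R) 0 := (exists_Ψ m R j).choose

theorem appS_Ψ (j : Fin (m + 1)) (W : (Proj (gr m R)).Opens) (s : Sec (twist (gr m R) (-1)) W) :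
    appS (Ψ m R j) W s = mulLin (gr m R) (show (1 : ℤ) + (-1) = 0 by norm_num) W (tSec m R j W) s :=
  (exists_Ψ m R j).choose_spec W s

end General

/-- The integers. -/
abbrev Z : Type u := ULift.{u} ℤ

variable (m : ℕ)

/-- Projective space over the integers. -/
noncomputable abbrev P : Scheme.{u} := Proj (gr m Z.{u})

/-- Its structure morphism. -/
noncomputable def f : P.{u} m ⟶ Spec (CommRingCat.of Z.{u}) := CohB1.ProjSpace.toSpec m Z.{u}

/-- `O(-1)`. -/
noncomputable abbrev L : (P.{u} m).Modules := twist (gr m Z.{u}) (-1)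

/-- `O(0)`. -/
noncomputable abbrev L0 : (P.{u} m).Modules := twist (gr m Z.{u}) 0

instance : IsProper (f.{u} m) := Groth.Agent.Ega3B.ProjProper.isProper_toSpec m _

theorem exists_int (W : (P.{u} m).Opens) (e : W ≤ f m ⁻¹ᵁ ⊤) (r : Γ(Spec (CommRingCat.of Z.{u}), ⊤)) :
    ∃ n : ℤ, (f.{u} m).appLE ⊤ W e r = (n : Γ(P.{u} m, W)) := by
  have h1 : Function.Surjective ((Scheme.ΓSpecIso (CommRingCat.of Z.{u})).inv) := by
    exact (ConcreteCategory.bijective_of_isIso (Scheme.ΓSpecIso (CommRingCat.of Z.{u})).inv).2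
  obtain ⟨⟨n⟩, rfl⟩ := h1 r
  refine ⟨n, ?_⟩
  change ((f.{u} m).appLE ⊤ W e).hom ((Scheme.ΓSpecIso (CommRingCat.of Z.{u})).inv.hom ((n : ℤ) : Z.{u})) = _
  rw [map_intCast, map_intCast]

theorem exists_φ (j : Fin (m + 1)) {W : (P.{u} m).Opens} (hW : IsAffineOpen W) :
    ∃ φ : Sec (Omega.sheaf (f.{u} m)) W →ₗ[Γ(P.{u} m, W)] Sec (L.{u} m) W,
      ∀ s, φ (d (f.{u} m) W s) = δ m Z.{u} j W s := by
  refine OmegaLift.exists_lift (f.{u} m) (U := ⊤) (W := W) le_top (isAffineOpen_top _) hW (δ m Z.{u} j W)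
    (δ_mul m Z.{u} j W) fun r => ?_
  obtain ⟨n, hn⟩ := exists_int m W le_top r
  exact (congrArg (δ m Z.{u} j W) hn).trans (δ_intCast m Z.{u} j W n)

theorem exists_Φ (j : Fin (m + 1)) : ∃ Φ : Omega.sheaf (f.{u} m) ⟶ L.{u} m,
    ∀ (W : (P.{u} m).Opens) (s : Γ(P.{u} m, W)), appS Φ W (d (f.{u} m) W s) = δ m Z.{u} j W s := by
  choose φ hφ using fun W : (P.{u} m).affineOpens => exists_φ m j W.2
  obtain ⟨Φ, hΦ⟩ := exists_hom_of_basis' (affineBasis (P.{u} m)) (Omega.sheaf (f.{u} m)) (L.{u} m)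
    φ (fun W W' h s => by
      have hs : s ∈ Submodule.span Γ(P.{u} m, W.1) (Set.range (d (f.{u} m) W.1)) := by
        rw [OmegaLift.span_d (f.{u} m) (U := ⊤) le_top (isAffineOpen_top _) W.2]
        trivial
      induction hs using Submodule.span_induction with
      | mem s hs =>
        obtain ⟨g, rfl⟩ := hs
        rw [hφ]
        have h1 : res (Omega.sheaf (f.{u} m)) h (d (f.{u} m) W.1 g) = d (f.{u} m) W'.1 (resO (P.{u} m) h g) :=
          d_res (f.{u} m) h g
        rw [h1, hφ, δ_res]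
      | zero => rw [map_zero, map_zero, map_zero, map_zero]
      | add a b _ _ ha hb => rw [map_add, map_add, map_add, map_add, ha, hb]
      | smul r a _ ha => rw [res_smul, map_smul, map_smul, res_smul, ha])
  refine ⟨Φ, fun W s => ?_⟩
  apply eq_of_locally
  intro x hx
  obtain ⟨V, ⟨i, rfl⟩, hxV, hV⟩ := Opens.isBasis_iff_nbhd.mp (affineBasis (P.{u} m)) hx
  refine ⟨i.1, hV, hxV, ?_⟩
  have h1 : res (Omega.sheaf (f.{u} m)) hV (d (f.{u} m) W s) = d (f.{u} m) i.1 (resO (P.{u} m) hV s) :=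
    d_res (f.{u} m) hV s
  have h2 : appS Φ i.1 (res (Omega.sheaf (f.{u} m)) hV (d (f.{u} m) W s)) =
      res (L.{u} m) hV (appS Φ W (d (f.{u} m) W s)) := appS_res Φ hV _
  refine h2.symm.trans ((congrArg (appS Φ i.1) h1).trans ?_)
  exact ((hΦ i _).trans (hφ i _)).trans (δ_res m Z.{u} j hV s)

/-- `Ω ⟶ O(-1)`, `ds ↦ ∂s/∂T_j`. -/
noncomputable def Φ (j : Fin (m + 1)) : Omega.sheaf (f.{u} m) ⟶ L.{u} m := (exists_Φ m j).choose

theorem Φ_d (j : Fin (m + 1)) (W : (P.{u} m).Opens) (s : Γ(P.{u} m, W)) :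
    appS (Φ m j) W (d (f.{u} m) W s) = δ m Z.{u} j W s := (exists_Φ m j).choose_spec W s

end Groth.Agent.Krr.H492.EulerMap
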