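import Groth.Agent.Krr.H492.EulerGen
import Groth.Agent.PerfB.ProjSpaceCover

/-!
# The Euler sequence `0 ⟶ Ω ⟶ O(-1)^{m+1} ⟶ O(0) ⟶ 0` on `P^m_ℤ`
-/

set_option autoImplicit false
universe u

open CategoryTheory CategoryTheory.Limits AlgebraicGeometry TopologicalSpace Opposite

namespace Groth.Agent.Krr.H492.EulerSeq

open Twist Groth.Agent.Ega2.TwistBasic Groth.Agent.Ega2.TwistMul Groth.Agent.Ega2.TwistInv MvPolynomial
open Groth.Agent.Krr.H492.EulerDer Groth.Agent.Krr.H492.EulerMap Groth.Agent.Sga67.Sec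
open Groth.Agent.Krr.H492.EulerLoc Groth.Agent.Krr.H492.EulerGen

section Sum

attribute [local instance] Abelian.hasFiniteBiproducts

variable {X : Scheme.{u}} {M N : X.Modules}

theorem appS_sum {ι : Type} (A : Finset ι) (φ : ι → (M ⟶ N)) (U : X.Opens) (s : Sec M U) :
    appS (∑ i ∈ A, φ i) U s = ∑ i ∈ A, appS (φ i) U s := by
  classical
  induction A using Finset.induction_on with
  | empty => rw [Finset.sum_empty, Finset.sum_empty, appS_zero]
  | insert a A ha ih => rw [Finset.sum_insert ha, Finset.sum_insert ha, appS_add, ih]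

variable {n : ℕ}

/-- A section of a biproduct is the sum of its components. -/
theorem sec_total (K : Fin n → X.Modules) (U : X.Opens) (s : Sec (⨁ K) U) :
    ∑ j, appS (biproduct.ι K j) U (appS (biproduct.π K j) U s) = s := by
  have h : appS (∑ j, biproduct.π K j ≫ biproduct.ι K j) U s = s :=
    congrArg (fun φ => appS φ U s) (biproduct.total (f := K))
  rw [appS_sum] at h
  exact h

theorem sec_ext (K : Fin n → X.Modules) (U : X.Opens) (s t : Sec (⨁ K) U)
    (h : ∀ j, appS (biproduct.π K j) U s = appS (biproduct.π K j) U t) : s = t := by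
  rw [← sec_total K U s, ← sec_total K U t]
  exact Finset.sum_congr rfl fun j _ => by rw [h j]

end Sum

attribute [local instance] Abelian.hasFiniteBiproducts

variable (m : ℕ)

theorem exists_inside {R : Type u} [CommRing R] (x : Proj (gr m R)) (W : (Proj (gr m R)).Opens) (hx : x ∈ W) :
    ∃ (a : Fin (m + 1)) (V : (Proj (gr m R)).Opens), V ≤ W ∧ x ∈ V ∧ Inside a V := by
  obtain ⟨a, ha⟩ := Groth.Agent.PerfB.ProjSpaceCover.exists_mem_basicOpen_X m R x
  refine ⟨a, W ⊓ Proj.basicOpen (gr m R) (X a), inf_le_left, ⟨hx, ha⟩, fun y hy => hy.2⟩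

theorem zero_aux : ∑ j, Φ m j ≫ Ψ m Z.{u} j = 0 := by
  apply hom_ext_of_locally
  intro x U hx
  obtain ⟨W, hW, hxW, hle⟩ := Opens.isBasis_iff_nbhd.mp (P.{u} m).isBasis_affineOpens hx
  refine ⟨W, hle, hxW, fun s => ?_⟩
  have hs : s ∈ Submodule.span Γ(P.{u} m, W) (Set.range (D W)) := by
    rw [span_D hW]
    trivial
  rw [appS_zero]
  induction hs using Submodule.span_induction with
  | mem s hs =>
    obtain ⟨g, rfl⟩ := hs
    rw [appS_sum]
    refine (Finset.sum_congr rfl fun j _ => ?_).trans (sum_Ψ_δ g)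
    rw [appS_comp, Φ_D]
  | zero => rw [map_zero]
  | add p q _ _ hp hq => rw [map_add, hp, hq, add_zero]
  | smul c p _ hp => rw [map_smul, hp, smul_zero]

/-- The middle term. -/
noncomputable abbrev B : (P.{u} m).Modules := ⨁ fun _ : Fin (m + 1) => L.{u} m

/-- The projections. -/
noncomputable abbrev pr (j : Fin (m + 1)) : B.{u} m ⟶ L.{u} m := biproduct.π _ j

/-- The inclusions. -/
noncomputable abbrev inc (j : Fin (m + 1)) : L.{u} m ⟶ B.{u} m := biproduct.ι (fun _ : Fin (m + 1) => L.{u} m) j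

/-- `Ω ⟶ O(-1)^{m+1}`. -/
noncomputable def F : Omega.sheaf (f.{u} m) ⟶ B.{u} m := biproduct.lift (Φ m)

/-- `O(-1)^{m+1} ⟶ O(0)`. -/
noncomputable def G : B.{u} m ⟶ L0.{u} m := biproduct.desc (Ψ m Z.{u})

theorem F_G : F.{u} m ≫ G.{u} m = 0 := biproduct.lift_desc.trans (zero_aux m)

theorem π_F (j : Fin (m + 1)) (U : (P.{u} m).Opens) (s : Sec (Omega.sheaf (f.{u} m)) U) :
    appS (pr.{u} m j) U (appS (F.{u} m) U s) = appS (Φ m j) U s :=
  congrArg (fun φ => appS φ U s) (biproduct.lift_π (Φ m) j)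

theorem ι_G (j : Fin (m + 1)) (U : (P.{u} m).Opens) (s : Sec (L.{u} m) U) :
    appS (G.{u} m) U (appS (inc.{u} m j) U s) = appS (Ψ m Z.{u} j) U s :=
  congrArg (fun φ => appS φ U s) (biproduct.ι_desc (Ψ m Z.{u}) j)

theorem app_G (U : (P.{u} m).Opens) (s : Sec (B.{u} m) U) :
    appS (G.{u} m) U s = ∑ j, appS (Ψ m Z.{u} j) U (appS (pr.{u} m j) U s) := by
  conv_lhs => rw [← sec_total (fun _ : Fin (m + 1) => L.{u} m) U s]
  rw [map_sum]
  exact Finset.sum_congr rfl fun j _ => ι_G m j U _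

variable {m}

/-- Value of the maps on a combination of the `d y_k`. -/
theorem Φ_comb {a : Fin (m + 1)} {V : (P.{u} m).Opens} (hV : Inside a V) (c : Fin (m + 1) → Γ(P.{u} m, V))
    (j : Fin (m + 1)) : appS (Φ m j) V (∑ k, c k • D V (y a k hV)) =
      (c j - (if j = a then ∑ k, c k * y a k hV else 0)) • ea a hV := by
  rw [map_sum]
  have h : ∀ k, appS (Φ m j) V (c k • D V (y a k hV)) =
      ((if j = k then c k else 0) - (if j = a then c k * y a k hV else 0)) • ea a hV := by
    intro k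
    rw [map_smul, Φ_D, δ_y, smul_sub, ← mul_smul, ← mul_smul, ← mul_smul, ← sub_smul]
    congr 1
    split_ifs <;> ring
  rw [Finset.sum_congr rfl fun k _ => h k, ← Finset.sum_smul, Finset.sum_sub_distrib]
  congr 2
  · rw [Finset.sum_ite_eq]
    simp
  · split_ifs
    · rfl
    · exact Finset.sum_const_zero

theorem locally_injective (x : P.{u} m) {W : (P.{u} m).Opens} (hx : x ∈ W) (s : Sec (Omega.sheaf (f.{u} m)) W)
    (hs : ∀ j, appS (Φ m j) W s = 0) :
    ∃ (V : (P.{u} m).Opens) (h : V ≤ W), x ∈ V ∧ res _ h s = 0 := by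
  obtain ⟨a, V₀, h₀, hx₀, hV₀⟩ := exists_inside m x W hx
  obtain ⟨V, h, hxV, hmem⟩ := exists_span' a hV₀ (res _ h₀ s) x hx₀
  refine ⟨V, h.trans h₀, hxV, ?_⟩
  rw [res_res] at hmem
  obtain ⟨c, hc⟩ := (Submodule.mem_span_range_iff_exists_fun _).mp hmem
  have hV := hV₀.mono h
  have h1 : ∀ j, c j - (if j = a then ∑ k, c k * y a k hV else 0) = 0 := by
    intro j
    apply (bijective_ea a hV).1
    dsimp only
    rw [← Φ_comb hV c j, hc, appS_res, hs j, map_zero, zero_smul]
  rw [← hc]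
  have h2 : ∀ j, c j • D V (y a j hV) = 0 := by
    intro j
    by_cases hj : j = a
    · subst hj
      rw [y_self, D_one, smul_zero]
    · have h3 := h1 j
      rw [if_neg hj, sub_zero] at h3
      rw [h3, zero_smul]
  exact Finset.sum_eq_zero fun j _ => h2 j

variable (m)

theorem exact_aux (U : (P.{u} m).Opens) (s : Sec (B.{u} m) U) (hs : appS (G.{u} m) U s = 0) (x : P.{u} m)
    (hx : x ∈ U) : ∃ (V : (P.{u} m).Opens) (h : V ≤ U), x ∈ V ∧
      ∃ t : Sec (Omega.sheaf (f.{u} m)) V, appS (F.{u} m) V t = res _ h s := by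
  obtain ⟨a, V, h, hxV, hV⟩ := exists_inside m x U hx
  refine ⟨V, h, hxV, ?_⟩
  have h1 : ∀ j, ∃ c : Γ(P.{u} m, V), c • ea a hV = appS (pr.{u} m j) V (res _ h s) := fun j =>
    (bijective_ea a hV).2 _
  choose c hc using h1
  have h2 : ∑ k, c k * y a k hV = 0 := by
    apply (bijective_e0 V).1
    have h3 := appS_res (G.{u} m) h s
    rw [hs, map_zero, app_G] at h3
    have h4 : (0 : Γ(P.{u} m, V)) • (e0 V : Sec (L0.{u} m) V) = 0 := zero_smul _ _
    refine Eq.trans ?_ (h3.trans h4.symm)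
    refine (Finset.sum_smul (R := Γ(P.{u} m, V)) (M := Sec (L0.{u} m) V)).trans ?_
    refine Finset.sum_congr rfl fun j _ => ?_
    rw [← hc, map_smul, Ψ_ea, ← mul_smul]
  refine ⟨∑ k, c k • D V (y a k hV), ?_⟩
  refine sec_ext (fun _ : Fin (m + 1) => L.{u} m) V _ _ fun j => ?_
  refine (π_F m j V _).trans ((Φ_comb hV c j).trans (Eq.trans ?_ (hc j)))
  rw [h2]
  congr 1
  split_ifs <;> simp

theorem mono_aux : Mono (F.{u} m) := by
  rw [Preadditive.mono_iff_cancel_zero]
  intro K g hg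
  apply hom_ext
  intro U s
  rw [appS_zero]
  apply eq_of_locally
  intro x hx
  obtain ⟨V, h, hxV, h0⟩ := locally_injective x hx (appS g U s) fun j => by
    refine (π_F m j U _).symm.trans ?_
    have h1 : appS (F.{u} m) U (appS g U s) = 0 := by
      rw [← appS_comp, hg, appS_zero]
    rw [h1, map_zero]
  exact ⟨V, h, hxV, h0.trans (map_zero _).symm⟩

theorem epi_aux : Epi (G.{u} m) := by
  apply epi_of_locally_surjective
  intro U s x hx
  obtain ⟨a, V, h, hxV, hV⟩ := exists_inside m x U hx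
  refine ⟨V, h, hxV, ?_⟩
  obtain ⟨c, hc⟩ := (bijective_e0 V).2 (res _ h s)
  refine ⟨appS (inc.{u} m a) V (c • ea a hV), ?_⟩
  refine (ι_G m a V _).trans ?_
  rw [map_smul, Ψ_ea, y_self, one_smul]
  exact hc

/-- The Euler sequence. -/
noncomputable def seq : ShortComplex (P.{u} m).Modules := ShortComplex.mk (F.{u} m) (G.{u} m) (F_G m)

theorem shortExact : (seq.{u} m).ShortExact where
  exact := exact_of_locally (S := seq.{u} m) (exact_aux m)
  mono_f := mono_aux m
  epi_g := epi_aux m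

end Groth.Agent.Krr.H492.EulerSeq
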