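import Groth.Agent.Grpsch.ConormalBC
import Mathlib.LinearAlgebra.TensorProduct.RightExactness

/-!
# Stalks of `j^* ker(O_Q → j_* O_X)`

For a preimmersion `j : X ⟶ Q` and `x : X`, every element of the stalk of `j^* K_j` is the class `canAdd j e` of some
`e` with `kap e ∈ ker (O_{Q, j x} → O_{X, x})`, and `canAdd j e = 0` iff `kap e` lies in the square of this kernel.
`down j g : C'_{j ≫ g} ⟶ C'_j` is the natural map for `X ⟶ Q ⟶ P`.
-/

set_option autoImplicit false
universe u

open CategoryTheory CategoryTheory.Limits AlgebraicGeometry TopologicalSpace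

namespace Groth.Agent.Krr.H492.StalkCon

open Groth.Agent.Smoothlim.ModKer Groth.Agent.CycB.StalkExact Groth.Agent.CycB.PushStalk
open Groth.Agent.Fdesc.PullbackStalk Groth.Agent.Fdesc.FlatBC Groth.Agent.Grpsch.ConormalStalk
open Groth.Agent.Grpsch.ConormalBC

variable {X Q P : Scheme.{u}} (j : X ⟶ Q)

open scoped TensorProduct in
/-- The kernel of the base change map along a surjection. -/
theorem mem_smul_top_of_isBaseChange {A : Type u} {B : Type u} [CommRing A] [CommRing B] [Algebra A B]
    (h : Function.Surjective (algebraMap A B)) {M : Type u} [AddCommGroup M] [Module A M] {N : Type u}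
    [AddCommGroup N] [Module A N] [Module B N] [IsScalarTower A B N] (f : M →ₗ[A] N) (hf : IsBaseChange B f)
    (m : M) (hm : f m = 0) : m ∈ (RingHom.ker (algebraMap A B)) • (⊤ : Submodule A M) := by
  have h1 : (1 : B) ⊗ₜ[A] m = 0 := by
    apply hf.equiv.injective
    rw [map_zero, hf.equiv_tmul, hm, smul_zero]
  have hex : Function.Exact ((RingHom.ker (algebraMap A B)).subtype) (Algebra.linearMap A B) := by
    intro a
    constructor
    · intro ha
      exact ⟨⟨a, ha⟩, rfl⟩
    · rintro ⟨a, rfl⟩
      exact a.2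
  have h2 := rTensor_exact M hex h
  obtain ⟨t, ht⟩ := (h2 ((1 : A) ⊗ₜ[A] m)).mp (by
    rw [LinearMap.rTensor_tmul, Algebra.linearMap_apply, map_one]
    exact h1)
  have h3 : m = TensorProduct.lid A M ((LinearMap.rTensor M (RingHom.ker (algebraMap A B)).subtype) t) := by
    rw [ht]
    simp
  rw [h3]
  clear h3 ht
  induction t using TensorProduct.induction_on with
  | zero => simp
  | add x y hx hy => rw [map_add, map_add]; exact Submodule.add_mem _ hx hy
  | tmul a m' =>
    simp only [LinearMap.rTensor_tmul, TensorProduct.lid_tmul, Submodule.subtype_apply]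
    exact Submodule.smul_mem_smul a.2 trivial

section canAdd

variable [SurjectiveOnStalks j] (M : Q.Modules) (x : X)

theorem canAdd_surjective : Function.Surjective (canAdd j M x) := by
  intro c
  have h := span_range_canAdd j M x
  have hc : c ∈ Submodule.span (X.presheaf.stalk x) (Set.range (canAdd j M x)) := by
    rw [h]; trivial
  induction hc using Submodule.span_induction with
  | mem c hc => exact hc
  | zero => exact ⟨0, map_zero _⟩
  | add c c' _ _ h h' =>
    obtain ⟨e, rfl⟩ := h
    obtain ⟨e', rfl⟩ := h'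
    exact ⟨e + e', map_add _ _ _⟩
  | smul b c _ h =>
    obtain ⟨e, rfl⟩ := h
    obtain ⟨a, rfl⟩ := j.stalkMap_surjective x b
    exact ⟨a • e, canAdd_smul j M x a e⟩

theorem mem_smul_top_of_canAdd_eq_zero (e : M.presheaf.stalk (j x)) (he : canAdd j M x e = 0) :
    e ∈ (RingHom.ker (j.stalkMap x).hom) • (⊤ : Submodule (Q.presheaf.stalk (j x)) (M.presheaf.stalk (j x))) := by
  let := stalkAlg j x
  let := FlatMod.moduleStalkOver j ((Scheme.Modules.pullback j).obj M) x
  have := isScalarTower j ((Scheme.Modules.pullback j).obj M) x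
  exact mem_smul_top_of_isBaseChange
    (A := Q.presheaf.stalk (j x)) (B := X.presheaf.stalk x)
    (fun b => j.stalkMap_surjective x b)
    (can j M x) (isBaseChange_can j M x) e he

omit [SurjectiveOnStalks j] in
theorem canAdd_eq_zero_of_mem (e : M.presheaf.stalk (j x))
    (he : e ∈ (RingHom.ker (j.stalkMap x).hom) •
      (⊤ : Submodule (Q.presheaf.stalk (j x)) (M.presheaf.stalk (j x)))) : canAdd j M x e = 0 := by
  induction he using Submodule.smul_induction_on' with
  | smul a ha m _ =>
    rw [canAdd_smul]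
    have h : j.stalkMap x a = 0 := ha
    rw [h, zero_smul]
  | add x _ y _ hx hy => rw [map_add, hx, hy, add_zero]

end canAdd

section kap

variable [IsPreimmersion j] (x : X)

/-- The kernel of `O_{Q, j x} → O_{X, x}`. -/
noncomputable abbrev Ix : Ideal (Q.presheaf.stalk (j x)) := RingHom.ker (j.stalkMap x).hom

theorem kap_mem (e : (kernel (ClSub.unitToPush j)).presheaf.stalk (j x)) : kap j (j x) e ∈ Ix j x :=
  (mem_range_kap_iff j j.isEmbedding.isInducing x _).mp ⟨e, rfl⟩

theorem exists_kap_eq (a : Q.presheaf.stalk (j x)) (ha : a ∈ Ix j x) :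
    ∃ e, kap j (j x) e = a :=
  (mem_range_kap_iff j j.isEmbedding.isInducing x a).mpr ha

theorem canAdd_eq_zero_iff (e : (kernel (ClSub.unitToPush j)).presheaf.stalk (j x)) :
    canAdd j _ x e = 0 ↔ kap j (j x) e ∈ (Ix j x) ^ 2 := by
  constructor
  · intro he
    have h := mem_smul_top_of_canAdd_eq_zero j _ x e he
    clear he
    induction h using Submodule.smul_induction_on' with
    | smul a ha m _ =>
      rw [map_smul, smul_eq_mul, pow_two]
      exact Ideal.mul_mem_mul ha (kap_mem j x m)
    | add y _ z _ hy hz => rw [map_add]; exact add_mem hy hz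
  · intro he
    apply canAdd_eq_zero_of_mem
    -- lift the element of `I ^ 2`
    have key : ∀ a ∈ (Ix j x) ^ 2, ∃ m ∈ (Ix j x) •
        (⊤ : Submodule (Q.presheaf.stalk (j x)) ((kernel (ClSub.unitToPush j)).presheaf.stalk (j x))),
        kap j (j x) m = a := by
      intro a ha
      rw [pow_two] at ha
      induction ha using Submodule.mul_induction_on' with
      | mem_mul_mem b hb c hc =>
        obtain ⟨m, rfl⟩ := exists_kap_eq j x c hc
        exact ⟨b • m, Submodule.smul_mem_smul hb trivial, map_smul _ _ _⟩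
      | add b _ c _ hb hc =>
        obtain ⟨m, hm, rfl⟩ := hb
        obtain ⟨m', hm', rfl⟩ := hc
        exact ⟨m + m', add_mem hm hm', map_add _ _ _⟩
    obtain ⟨m, hm, hme⟩ := key _ he
    rwa [← kap_injective j (j x) hme]

end kap

section comp

variable (g : Q ⟶ P)

theorem pullbackComp_inv_unit (M : P.Modules) (V : P.Opens) (m : Γ(M, V)) :
    ((Scheme.Modules.pullbackComp j g).inv.app M).app ((j ≫ g) ⁻¹ᵁ V)
      (((Scheme.Modules.pullbackPushforwardAdjunction (j ≫ g)).unit.app M).app V m) =
      ((Scheme.Modules.pullbackPushforwardAdjunction j).unit.app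
        ((Scheme.Modules.pullback g).obj M)).app (g ⁻¹ᵁ V)
        (((Scheme.Modules.pullbackPushforwardAdjunction g).unit.app M).app V m) := by
  have h := unit_conjugateEquiv ((Scheme.Modules.pullbackPushforwardAdjunction g).comp
    (Scheme.Modules.pullbackPushforwardAdjunction j)) (Scheme.Modules.pullbackPushforwardAdjunction (j ≫ g))
    (Scheme.Modules.pullbackComp j g).inv M
  rw [Scheme.Modules.conjugateEquiv_pullbackComp_inv] at h
  exact congr((Scheme.Modules.Hom.app $h V) m).symm

/-- The canonical maps on stalks and composition. -/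
theorem stalkLin_pullbackComp_inv (M : P.Modules) (x : X) (m : M.presheaf.stalk (g (j x))) :
    stalkLin ((Scheme.Modules.pullbackComp j g).inv.app M) x (canAdd (j ≫ g) M x m) =
      canAdd j ((Scheme.Modules.pullback g).obj M) x (canAdd g M (j x) m) := by
  obtain ⟨V, hV, s, rfl⟩ := TopCat.Presheaf.exists_germ_eq M.presheaf m
  refine (congrArg _ (canAdd_germ (j ≫ g) M x V hV s)).trans ?_
  refine (stalkLin_germ _ x (U := (j ≫ g) ⁻¹ᵁ V) hV _).trans ?_
  refine (congrArg (((Scheme.Modules.pullback j).obj ((Scheme.Modules.pullback g).obj M)).presheaf.germ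
    (j ⁻¹ᵁ g ⁻¹ᵁ V) x hV) (pullbackComp_inv_unit j g M V s)).trans ?_
  refine Eq.trans ?_ (congrArg (canAdd j _ x) (canAdd_germ g M (j x) V hV s)).symm
  exact (canAdd_germ j ((Scheme.Modules.pullback g).obj M) x (g ⁻¹ᵁ V) hV _).symm

/-- `j^* ker (O_Q → j_* O_X)`. -/
noncomputable abbrev C' : X.Modules := (Scheme.Modules.pullback j).obj (kernel (ClSub.unitToPush j))

/-- The natural map `C'_{j ≫ g} ⟶ C'_j`. -/
noncomputable def down : C' (j ≫ g) ⟶ C' j :=
  (Scheme.Modules.pullbackComp j g).inv.app _ ≫
    (Scheme.Modules.pullback j).map (psi (i := j ≫ g) (i' := j) (g := g) (h := 𝟙 X)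
      (Category.id_comp _).symm)

theorem exists_down (x : X) (e : (kernel (ClSub.unitToPush (j ≫ g))).presheaf.stalk ((j ≫ g) x)) :
    ∃ e' : (kernel (ClSub.unitToPush j)).presheaf.stalk (j x),
      stalkLin (down j g) x (canAdd (j ≫ g) _ x e) = canAdd j _ x e' ∧
      kap j (j x) e' = g.stalkMap (j x) (kap (j ≫ g) (g (j x)) e) := by
  refine ⟨stalkLin (psi (i := j ≫ g) (i' := j) (g := g) (h := 𝟙 X)
      (Category.id_comp _).symm) (j x) (canAdd g _ (j x) e), ?_, ?_⟩
  · rw [down, stalkLin_comp, LinearMap.comp_apply]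
    erw [stalkLin_pullbackComp_inv j g _ x e]
    exact stalkMap_pullback_canAdd j _ x _
  · exact kap_psi _ (j x) e

end comp

end Groth.Agent.Krr.H492.StalkCon
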