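import Groth.Agent.Krr.H492.EulerClass
import Groth.Agent.Krr.H492.ConProd
import Groth.Agent.Sga5.ProjSmooth
import Groth.Prelude.Def_KRR

/-!
# The tangent element of a projective regular morphism does not depend on the factorization
-/

set_option autoImplicit false
universe u

open CategoryTheory CategoryTheory.Limits AlgebraicGeometry

namespace Groth.Agent.Krr.H492.TangentEl

open Groth.Agent.Krr.H496.PullK0 (cl cl_ses pullK0 pullK0_cl)
open Groth.Agent.Krr.H492.EulerMap (Z)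
open Groth.Agent.Krr.H492.DualK Groth.Agent.Krr.H492.EulerClass
open Groth.Agent.Grpsch.ConormalIso

/-- The conormal sheaf does not change under an isomorphism of the target. -/
theorem nonempty_conormal_iso {X Q Q' : Scheme.{u}} (e : Q ≅ Q') (i : X ⟶ Q) [IsPreimmersion i] [QuasiCompact i] :
    Nonempty (Omega.conormal i ≅ Omega.conormal (i ≫ e.hom)) := by
  have w : (i ≫ e.hom) ≫ e.inv = 𝟙 X ≫ i := by simp
  have H : IsPullback (i ≫ e.hom) (𝟙 X) e.inv i := IsPullback.of_vert_isIso ⟨w⟩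
  have := isIso_conormalMap_of_flat H
  exact ⟨((Scheme.Modules.pullbackId X).app (Omega.conormal i)).symm ≪≫ asIso (conormalMap H.w)⟩

variable (n m : ℕ) (Y : Scheme.{u})

/-- The map to the base. -/
noncomputable abbrev bs (W : Scheme.{u}) : W ⟶ Spec (CommRingCat.of Z.{u}) := specULiftZIsTerminal.from W

/-- The projection `P^n_Y ⟶ P^n_ℤ`. -/
noncomputable abbrev q : KRR.PY n Y ⟶ CohB1.ProjSpace.{u} n Z.{u} :=
  pullback.fst (CohB1.ProjSpace.toSpec n Z.{u}) (bs Y)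

/-- `T_m ×_ℤ P^n_Y`. -/
noncomputable abbrev E : Scheme.{u} := pullback (CohB1.ProjSpace.toSpec m Z.{u}) (bs (KRR.PY n Y))

variable {n Y} in
/-- Morphisms to `P^n_Y`. -/
noncomputable def lf {W : Scheme.{u}} (a : W ⟶ CohB1.ProjSpace.{u} n Z.{u}) (b : W ⟶ Y) : W ⟶ KRR.PY n Y :=
  pullback.lift a b (specULiftZIsTerminal.hom_ext _ _)

variable {n Y} in
theorem lf_q {W : Scheme.{u}} (a : W ⟶ CohB1.ProjSpace.{u} n Z.{u}) (b : W ⟶ Y) : lf a b ≫ q n Y = a :=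
  pullback.lift_fst _ _ _

variable {n Y} in
theorem lf_pr {W : Scheme.{u}} (a : W ⟶ CohB1.ProjSpace.{u} n Z.{u}) (b : W ⟶ Y) : lf a b ≫ KRR.pr n Y = b :=
  pullback.lift_snd _ _ _

variable {n Y} in
theorem py_ext {W : Scheme.{u}} {a b : W ⟶ KRR.PY n Y} (h1 : a ≫ q n Y = b ≫ q n Y)
    (h2 : a ≫ KRR.pr n Y = b ≫ KRR.pr n Y) : a = b := pullback.hom_ext h1 h2

/-- The isomorphism `T_m ×_ℤ P^n_Y ≅ T_n ×_ℤ P^m_Y`. -/
noncomputable def sw : E n m Y ⟶ E m n Y :=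
  pullback.lift (pullback.snd _ _ ≫ q n Y)
    (lf (pullback.fst _ _) (pullback.snd _ _ ≫ KRR.pr n Y))
    (specULiftZIsTerminal.hom_ext _ _)

theorem sw_fst : sw n m Y ≫ pullback.fst _ _ = pullback.snd _ _ ≫ q n Y := pullback.lift_fst _ _ _

theorem sw_snd_q : sw n m Y ≫ pullback.snd _ _ ≫ q m Y = pullback.fst _ _ := by
  rw [sw, pullback.lift_snd_assoc, lf_q]

theorem sw_snd_pr : sw n m Y ≫ pullback.snd _ _ ≫ KRR.pr m Y = pullback.snd _ _ ≫ KRR.pr n Y := by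
  rw [sw, pullback.lift_snd_assoc, lf_pr]

theorem hom_ext' {W : Scheme.{u}} {a b : W ⟶ E n m Y} (h1 : a ≫ pullback.fst _ _ = b ≫ pullback.fst _ _)
    (h2 : a ≫ pullback.snd _ _ ≫ q n Y = b ≫ pullback.snd _ _ ≫ q n Y)
    (h3 : a ≫ pullback.snd _ _ ≫ KRR.pr n Y = b ≫ pullback.snd _ _ ≫ KRR.pr n Y) : a = b := by
  apply pullback.hom_ext h1
  apply py_ext
  · rw [Category.assoc, Category.assoc]
    exact h2
  · rw [Category.assoc, Category.assoc]
    exact h3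

theorem sw_sw : sw n m Y ≫ sw m n Y = 𝟙 _ := by
  apply hom_ext'
  · rw [Category.assoc, sw_fst, sw_snd_q, Category.id_comp]
  · rw [Category.assoc, sw_snd_q, sw_fst, Category.id_comp]
  · rw [Category.assoc, sw_snd_pr, sw_snd_pr, Category.id_comp]

/-- The isomorphism. -/
noncomputable def swIso : E n m Y ≅ E m n Y := ⟨sw n m Y, sw m n Y, sw_sw n m Y, sw_sw m n Y⟩

variable {n m Y} {X : Scheme.{u}}

theorem rel (i : X ⟶ KRR.PY n Y) [IsClosedImmersion i] (hC : FlatMod.IsFinLocFree (Omega.conormal i))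
    (h : X ⟶ CohB1.ProjSpace.{u} m Z.{u}) :
    FlatMod.IsFinLocFree (Omega.conormal (pullback.lift (f := CohB1.ProjSpace.toSpec m Z.{u})
      (g := bs (KRR.PY n Y)) h i (specULiftZIsTerminal.hom_ext _ _))) ∧
    dualK X (cl (Omega.conormal (pullback.lift (f := CohB1.ProjSpace.toSpec m Z.{u})
      (g := bs (KRR.PY n Y)) h i (specULiftZIsTerminal.hom_ext _ _)))) + cl (Coh.structureModule X) =
      dualK X (cl (Omega.conormal i)) +
        (m + 1) • cl ((Scheme.Modules.pullback h).obj (Twist.twistProjSpace.{u} m Z.{u} 1)) := by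
  have hp : IsProper (CohB1.ProjSpace.toSpec m Z.{u}) := Groth.Agent.Ega3B.ProjProper.isProper_toSpec m _
  have hs1 : SmoothOfRelativeDimension m (CohB1.ProjSpace.toSpec m Z.{u}) :=
    Groth.Agent.Sga5.ProjSmooth.smooth_toSpec m _
  have hs : Smooth (CohB1.ProjSpace.toSpec m Z.{u}) := SmoothOfRelativeDimension.smooth m _
  obtain ⟨S, hS, ⟨e₁⟩, ⟨e₂⟩, ⟨e₃⟩⟩ := ConProd.exists_shortExact (CohB1.ProjSpace.toSpec m Z.{u}) (bs (KRR.PY n Y))
    i h (specULiftZIsTerminal.hom_ext _ _)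
  have h₁ : FlatMod.IsFinLocFree S.X₁ := Dcoh.FinLocFree.isFinLocFree_of_iso e₁.symm hC
  have h₃ : FlatMod.IsFinLocFree S.X₃ := Dcoh.FinLocFree.isFinLocFree_of_iso e₃.symm (isFinLocFree_pull_omega m h)
  have h₂ : FlatMod.IsFinLocFree S.X₂ := Sga67.LocBasis.isFinLocFree_of_shortExact hS h₁ h₃
  refine ⟨Dcoh.FinLocFree.isFinLocFree_of_iso e₂ h₂, ?_⟩
  have h4 := congrArg (dualK X) (cl_ses hS h₁ h₂ h₃)
  rw [map_add, cl_iso e₁ h₁, cl_iso e₂ h₂, cl_iso e₃ h₃] at h4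
  rw [h4, add_assoc, cl_dual_pull]

/-- The main identity, in `K₀` of finite locally free modules. -/
theorem main (i₁ : X ⟶ KRR.PY n Y) [IsClosedImmersion i₁] (hC₁ : FlatMod.IsFinLocFree (Omega.conormal i₁))
    (i₂ : X ⟶ KRR.PY m Y) [IsClosedImmersion i₂] (hC₂ : FlatMod.IsFinLocFree (Omega.conormal i₂))
    (hf : i₁ ≫ KRR.pr n Y = i₂ ≫ KRR.pr m Y) :
    (n + 1) • cl ((Scheme.Modules.pullback i₁).obj (Twist.twistOver n Y 1)) - dualK X (cl (Omega.conormal i₁)) =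
      (m + 1) • cl ((Scheme.Modules.pullback i₂).obj (Twist.twistOver m Y 1)) - dualK X (cl (Omega.conormal i₂)) := by
  obtain ⟨hA, h1⟩ := rel (m := m) i₁ hC₁ (i₂ ≫ q m Y)
  obtain ⟨hB, h2⟩ := rel (m := n) i₂ hC₂ (i₁ ≫ q n Y)
  have w₁ : (i₂ ≫ q m Y) ≫ CohB1.ProjSpace.toSpec m Z.{u} = i₁ ≫ bs (KRR.PY n Y) :=
    specULiftZIsTerminal.hom_ext _ _
  have w₂ : (i₁ ≫ q n Y) ≫ CohB1.ProjSpace.toSpec n Z.{u} = i₂ ≫ bs (KRR.PY m Y) :=
    specULiftZIsTerminal.hom_ext _ _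
  have e : pullback.lift (i₂ ≫ q m Y) i₁ w₁ ≫ (swIso n m Y).hom = pullback.lift (i₁ ≫ q n Y) i₂ w₂ := by
    change pullback.lift (i₂ ≫ q m Y) i₁ w₁ ≫ sw n m Y = pullback.lift (i₁ ≫ q n Y) i₂ w₂
    apply hom_ext'
    · rw [Category.assoc, sw_fst, pullback.lift_snd_assoc, pullback.lift_fst]
    · rw [Category.assoc, sw_snd_q, pullback.lift_fst, pullback.lift_snd_assoc]
    · rw [Category.assoc, sw_snd_pr, pullback.lift_snd_assoc, pullback.lift_snd_assoc, hf]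
  have hsep : IsSeparated (CohB1.ProjSpace.toSpec m Z.{u}) := by
    have hp : IsProper (CohB1.ProjSpace.toSpec m Z.{u}) := Groth.Agent.Ega3B.ProjProper.isProper_toSpec m _
    infer_instance
  have hcl : IsPreimmersion (pullback.lift (i₂ ≫ q m Y) i₁ w₁) ∧ QuasiCompact (pullback.lift (i₂ ≫ q m Y) i₁ w₁) := by
    have h3 : IsClosedImmersion (pullback.lift (i₂ ≫ q m Y) i₁ w₁ ≫ pullback.snd _ _) := by
      rw [pullback.lift_snd]
      infer_instance
    have h4 : IsClosedImmersion (pullback.lift (i₂ ≫ q m Y) i₁ w₁) :=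
      IsClosedImmersion.of_comp _ (pullback.snd (CohB1.ProjSpace.toSpec m Z.{u}) (bs (KRR.PY n Y)))
    exact ⟨inferInstance, inferInstance⟩
  obtain ⟨hcl1, hcl2⟩ := hcl
  obtain ⟨e'⟩ := nonempty_conormal_iso (swIso n m Y) (pullback.lift (i₂ ≫ q m Y) i₁ w₁)
  rw [e] at e'
  have h5 := cl_iso e' hA
  rw [h5] at h1
  have h6 : dualK X (cl (Omega.conormal i₁)) + (m + 1) • cl ((Scheme.Modules.pullback (i₂ ≫ q m Y)).obj
      (Twist.twistProjSpace.{u} m Z.{u} 1)) = dualK X (cl (Omega.conormal i₂)) +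
      (n + 1) • cl ((Scheme.Modules.pullback (i₁ ≫ q n Y)).obj (Twist.twistProjSpace.{u} n Z.{u} 1)) :=
    h1.symm.trans h2
  have h7 : ∀ (k : ℕ) (i : X ⟶ KRR.PY k Y), cl ((Scheme.Modules.pullback (i ≫ q k Y)).obj
      (Twist.twistProjSpace.{u} k Z.{u} 1)) = cl ((Scheme.Modules.pullback i).obj (Twist.twistOver k Y 1)) := by
    intro k i
    refine cl_iso ((Scheme.Modules.pullbackComp i (q k Y)).app (Twist.twistProjSpace.{u} k Z.{u} 1)).symm ?_
    exact Groth.Agent.PerfB.FlatPull.isFinLocFree_pullback _ (isFinLocFree_tw k 1)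
  rw [h7, h7] at h6
  rw [sub_eq_sub_iff_add_eq_add, add_comm, ← h6, add_comm]

end Groth.Agent.Krr.H492.TangentEl
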